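import Cfsg.Agent.L.Mat.A24
import Cfsg.Agent.L.S23
import Cfsg.Agent.L.M22b
import Cfsg.Prelude.Def_Spor_Mathieu
/-!
Automorphisms of `M23` and `M22`.
-/
set_option autoImplicit false
set_option maxHeartbeats 400000
namespace CfsgL.Mat
open Cfsg CfsgL.Comp CfsgL.Golay CfsgL.Orb
open scoped Pointwise

theorem block_pres {G : Subgroup (Equiv.Perm GolayPt)} {X : Type*} [Fintype X] [DecidableEq X]
    (R : Finset GolayPt) (hG : ∀ g, g ∈ G ↔ g ∈ M24 ∧ ∀ r ∈ R, g r = r) (hR : R.Nonempty)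
    (ι : X ↪ GolayPt) (hι : ∀ y, y ∈ R ∨ ∃ x, ι x = y) (hι' : ∀ x, ι x ∉ R)
    (φ : G →* Equiv.Perm X) (hφ : ∀ g x, ι (φ g x) = g.1 (ι x)) (α : MulAut G)
    (π : Equiv.Perm X) (h : ∀ g, φ (α g) = π * φ g * π⁻¹) (b : Finset X)
    (hb : b.map ι ∪ R ∈ octads) : (π • b).map ι ∪ R ∈ octads := by
  obtain ⟨t, ht, ht2, ht1, hto⟩ := octad_fix hb
  have htG : t ∈ G := by
    rw [hG]
    refine ⟨ht, fun r hr => ?_⟩
    rw [← mem_fixset, hto]
    exact Finset.mem_union_right _ hr
  have hfixX : ∀ x, φ ⟨t, htG⟩ x = x ↔ x ∈ b := by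
    intro x
    rw [← ι.injective.eq_iff, hφ]
    change t (ι x) = ι x ↔ _
    rw [← mem_fixset, hto, Finset.mem_union, Finset.mem_map' ι]
    constructor
    · rintro (h1 | h1)
      · exact h1
      · exact absurd h1 (hι' x)
    · exact fun h1 => Or.inl h1
  have hs := (α ⟨t, htG⟩).2
  have hs' := (hG _).1 hs
  have e : fixset (α ⟨t, htG⟩).1 = (π • b).map ι ∪ R := by
    ext y
    rw [mem_fixset, Finset.mem_union]
    rcases hι y with hy | ⟨x, rfl⟩
    · exact ⟨fun _ => Or.inr hy, fun _ => hs'.2 y hy⟩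
    · rw [← hφ, ι.injective.eq_iff, Finset.mem_map' ι, h, Equiv.Perm.mul_apply,
        Equiv.Perm.mul_apply]
      have h2 : x ∈ π • b ↔ π⁻¹ x ∈ b := by
        rw [← Finset.inv_smul_mem_iff]; rfl
      rw [h2, ← hfixX]
      constructor
      · intro h3
        left
        have := congrArg (fun z => π⁻¹ z) h3
        simpa using this
      · rintro (h3 | h3)
        · rw [h3]; simp
        · exact absurd h3 (hι' x)
  rw [← e]
  apply octad_of_fix hs'.1
  · have h3 : (⟨t, htG⟩ : G) ^ 2 = 1 := Subtype.ext ht2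
    have h4 : (α ⟨t, htG⟩) ^ 2 = 1 := by rw [← map_pow, h3, map_one]
    exact congrArg Subtype.val h4
  · intro h3
    have h4 : α ⟨t, htG⟩ = 1 := Subtype.ext h3
    rw [map_eq_one_iff _ α.injective] at h4
    exact ht1 (congrArg Subtype.val h4)
  · rw [e]
    obtain ⟨r, hr⟩ := hR
    exact ⟨r, Finset.mem_union_right _ hr⟩

/-- images of subgroups as permutation groups -/
def img2 {G : Subgroup (Equiv.Perm GolayPt)} (α : MulAut G) (S : Subgroup G) :
    Subgroup (Equiv.Perm GolayPt) := (S.map α.toMonoidHom).map G.subtype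

theorem img2_le {G : Subgroup (Equiv.Perm GolayPt)} (α : MulAut G) (S : Subgroup G) :
    img2 α S ≤ G := by
  rintro _ ⟨g, -, rfl⟩
  exact g.2

theorem card_img2 {G : Subgroup (Equiv.Perm GolayPt)} (α : MulAut G) (S : Subgroup G) :
    Nat.card (img2 α S) = Nat.card S := by
  have h1 : Nat.card (S.map α.toMonoidHom) = Nat.card S :=
    (Nat.card_congr (S.equivMapOfInjective _ α.injective).toEquiv).symm
  rw [← h1]
  exact (Nat.card_congr ((S.map α.toMonoidHom).equivMapOfInjective _ G.subtype_injective).toEquiv).symm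

theorem mem_img2 {G : Subgroup (Equiv.Perm GolayPt)} {α : MulAut G} {S : Subgroup G} {g : G}
    (hg : g ∈ S) : (α g).1 ∈ img2 α S := ⟨α g, ⟨g, hg, rfl⟩, rfl⟩

theorem M23_fixes (α : MulAut (fx [none])) :
    ∃ y : ZMod 23, ∀ g : fx [none], g.1 (some 0) = some 0 → (α g).1 (some y) = some y := by
  let S : Subgroup (fx [none]) := (fx [some 0, none]).subgroupOf (fx [none])
  let L := img2 α S
  have hLG : L ≤ fx [none] := img2_le α S
  have hL : L ≤ M24 := fun g hg => (hLG hg).1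
  have hLn : ∀ g ∈ L, g none = none := fun g hg => (hLG hg).2 none (by simp)
  have hLc : Nat.card L = 443520 := by
    have hne : (some 0 : GolayPt) ≠ none := by simp
    rw [← card_fx2 hne, card_img2]
    refine Nat.card_congr (Subgroup.subgroupOfEquivOfLe ?_).toEquiv
    intro g hg
    exact ⟨hg.1, fun p hp => hg.2 p (List.mem_cons_of_mem _ hp)⟩
  haveI : Fact (Nat.Prime 11) := ⟨by norm_num⟩
  haveI : Fact (Nat.Prime 7) := ⟨by norm_num⟩
  obtain ⟨z, hz, hz11, hz1⟩ := exists_elt L 11 (by rw [hLc]; norm_num)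
  obtain ⟨w, hw, hw7, hw1⟩ := exists_elt L 7 (by rw [hLc]; norm_num)
  have hzf := fix11 (hL hz) hz11 hz1
  have hwf := fix7 (hL hw) hw7 hw1
  have hnz : none ∈ fixset z := mem_fixset.2 (hLn z hz)
  obtain ⟨x1, hx1⟩ : ∃ x1, (fixset z).erase none = {x1} := by
    rw [← Finset.card_eq_one, Finset.card_erase_of_mem hnz, hzf]
  have hx1' : x1 ∈ (fixset z).erase none := by rw [hx1]; simp
  have hx1n : x1 ≠ none := (Finset.mem_erase.1 hx1').1
  have hnO : none ∉ orb L x1 := by
    intro hc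
    obtain ⟨g, hg, h⟩ := mem_orb.1 hc
    apply hx1n
    rw [← hLn g hg] at h
    exact g.injective h
  have hmod := orb_modEq (x := x1) hz hz11
  have h1 : ((orb L x1).filter (fun y => z y = y)).card = 1 := by
    rw [Finset.card_eq_one]
    refine ⟨x1, ?_⟩
    ext v
    rw [Finset.mem_filter, ← mem_fixset, ← hx1, Finset.mem_erase]
    constructor
    · rintro ⟨h2, h3⟩
      exact ⟨fun h => hnO (h ▸ h2), h3⟩
    · rintro ⟨h2, h3⟩
      have h4 : v ∈ (fixset z).erase none := Finset.mem_erase.2 ⟨h2, h3⟩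
      rw [hx1, Finset.mem_singleton] at h4
      rw [h4] at h3 ⊢
      exact ⟨self_mem_orb L x1, h3⟩
  rw [h1] at hmod
  have h2 : (orb L x1).card ≤ 23 := by
    have : orb L x1 ⊆ Finset.univ.erase none := by
      intro v hv
      rw [Finset.mem_erase]
      exact ⟨fun h => hnO (h ▸ hv), Finset.mem_univ _⟩
    have h3 := Finset.card_le_card this
    rwa [Finset.card_erase_of_mem (Finset.mem_univ _), card_univ24] at h3
  have h3 : (orb L x1).card = 1 ∨ (orb L x1).card = 12 ∨ (orb L x1).card = 23 := by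
    unfold Nat.ModEq at hmod
    omega
  rcases h3 with h3 | h3 | h3
  · obtain ⟨y, rfl⟩ := Option.ne_none_iff_exists.1 hx1n
    exact ⟨y, fun g hg => fixed_of_card_orb h3 _ (mem_img2 (by
      rw [Subgroup.mem_subgroupOf]
      refine ⟨g.2.1, fun p hp => ?_⟩
      rcases List.mem_cons.1 hp with rfl | hp
      · exact hg
      · exact g.2.2 p hp))⟩
  · exfalso
    have h4 := orb_modEq (x := x1) hw hw7
    rw [h3] at h4
    have h5 : ((orb L x1).filter (fun y => w y = y)).card ≤ 3 := by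
      rw [← hwf]
      apply Finset.card_le_card
      intro v hv
      exact mem_fixset.2 (Finset.mem_filter.1 hv).2
    unfold Nat.ModEq at h4
    omega
  · exfalso
    have h4 := card_orb_dvd L x1
    rw [h3, hLc] at h4
    norm_num at h4

theorem autEquiv23_symm_apply (g : fx [none]) (x : ZMod 23) :
    (some ((CfsgL.S23.autEquiv23.symm g).1 x) : GolayPt) = g.1 (some x) := by
  have h1 : CfsgL.S23.autEquiv23 (CfsgL.S23.autEquiv23.symm g) = g :=
    MulEquiv.apply_symm_apply _ _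
  have h2 := congrArg (fun k => k.1 (some x)) h1
  exact h2

theorem exists_new (s : Finset GolayPt) (h : s.card < 24) : ∃ e, e ∉ s := by
  by_contra hc
  push Not at hc
  rw [Finset.eq_univ_iff_forall.2 hc, card_univ24] at h
  omega

theorem tr4 {a b c d a' b' c' d' : GolayPt} (hab : a ≠ b) (hac : a ≠ c) (had : a ≠ d)
    (hbc : b ≠ c) (hbd : b ≠ d) (hcd : c ≠ d) (hab' : a' ≠ b') (hac' : a' ≠ c') (had' : a' ≠ d')
    (hbc' : b' ≠ c') (hbd' : b' ≠ d') (hcd' : c' ≠ d') :
    ∃ g ∈ M24, g a = a' ∧ g b = b' ∧ g c = c' ∧ g d = d' := by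
  obtain ⟨e, he⟩ := exists_new {a, b, c, d} (lt_of_le_of_lt Finset.card_le_four (by norm_num))
  obtain ⟨e', he'⟩ := exists_new {a', b', c', d'} (lt_of_le_of_lt Finset.card_le_four (by norm_num))
  simp only [Finset.mem_insert, Finset.mem_singleton, not_or] at he he'
  obtain ⟨g, hg, h1, h2, h3, h4, -⟩ := five_trans hab hac had (Ne.symm he.1) hbc hbd
    (Ne.symm he.2.1) hcd (Ne.symm he.2.2.1) (Ne.symm he.2.2.2) hab' hac' had' (Ne.symm he'.1)
    hbc' hbd' (Ne.symm he'.2.1) hcd' (Ne.symm he'.2.2.1) (Ne.symm he'.2.2.2)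
  exact ⟨g, hg, h1, h2, h3, h4⟩

theorem tr3 {a b c a' b' c' : GolayPt} (hab : a ≠ b) (hac : a ≠ c) (hbc : b ≠ c)
    (hab' : a' ≠ b') (hac' : a' ≠ c') (hbc' : b' ≠ c') :
    ∃ g ∈ M24, g a = a' ∧ g b = b' ∧ g c = c' := by
  obtain ⟨e, he⟩ := exists_new {a, b, c} (lt_of_le_of_lt Finset.card_le_three (by norm_num))
  obtain ⟨e', he'⟩ := exists_new {a', b', c'} (lt_of_le_of_lt Finset.card_le_three (by norm_num))
  simp only [Finset.mem_insert, Finset.mem_singleton, not_or] at he he'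
  obtain ⟨g, hg, h1, h2, h3, -⟩ := tr4 hab hac (Ne.symm he.1) hbc (Ne.symm he.2.1)
    (Ne.symm he.2.2) hab' hac' (Ne.symm he'.1) hbc' (Ne.symm he'.2.1) (Ne.symm he'.2.2)
  exact ⟨g, hg, h1, h2, h3⟩

theorem tr2 {a b a' b' : GolayPt} (hab : a ≠ b) (hab' : a' ≠ b') :
    ∃ g ∈ M24, g a = a' ∧ g b = b' := by
  obtain ⟨e, he⟩ := exists_new {a, b} (lt_of_le_of_lt Finset.card_le_two (by norm_num))
  obtain ⟨e', he'⟩ := exists_new {a', b'} (lt_of_le_of_lt Finset.card_le_two (by norm_num))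
  simp only [Finset.mem_insert, Finset.mem_singleton, not_or] at he he'
  obtain ⟨g, hg, h1, h2, -⟩ := tr3 hab (Ne.symm he.1) (Ne.symm he.2) hab' (Ne.symm he'.1)
    (Ne.symm he'.2)
  exact ⟨g, hg, h1, h2⟩

theorem ins_eq (b : Finset (ZMod 23)) :
    b.map Function.Embedding.some ∪ {(none : GolayPt)} = Finset.insertNone b := by
  ext x
  cases x with
  | none => simp
  | some x => simp

theorem M23_inner (α : MulAut (fx [none])) : ∃ g, α = MulAut.conj g := by
  obtain ⟨y, hy⟩ := M23_fixes α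
  let φ : fx [none] →* Equiv.Perm (ZMod 23) :=
    (setSystemAut CfsgL.S23.B23).subtype.comp CfsgL.S23.autEquiv23.symm.toMonoidHom
  have hφ : ∀ g x, (some (φ g x) : GolayPt) = g.1 (some x) := autEquiv23_symm_apply
  have hinj : Function.Injective φ :=
    (Subgroup.subtype_injective _).comp CfsgL.S23.autEquiv23.symm.injective
  obtain ⟨π, hπ⟩ := exists_perm φ (fun x y => by
    obtain ⟨g, hg, h1, h2⟩ := tr2 (a := none) (b := some x) (a' := none) (b' := some y)
      (by simp) (by simp)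
    refine ⟨⟨g, hg, by simpa using h1⟩, ?_⟩
    apply Option.some_injective
    rw [hφ]
    exact h2) α 0 y (fun g hg => by
    have h1 := hy g (by rw [← hφ, hg])
    rw [← hφ] at h1
    exact Option.some_injective _ h1)
  have hπB : π ∈ setSystemAut CfsgL.S23.B23 := by
    apply mem_aut_of_le
    intro b hb
    have h1 := block_pres (G := fx [none]) {none} (fun g => by
      rw [mem_fx]; simp) ⟨none, by simp⟩ Function.Embedding.some (fun y => by
        cases y with
        | none => left; simp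
        | some y => right; exact ⟨y, rfl⟩) (fun x => by simp) φ hφ α π hπ b (by
          rw [ins_eq]; exact hb)
    rw [ins_eq] at h1
    exact h1
  refine ⟨CfsgL.S23.autEquiv23 ⟨π, hπB⟩, ?_⟩
  ext g : 1
  apply hinj
  rw [hπ, MulAut.conj_apply, map_mul, map_mul, map_inv]
  have : φ (CfsgL.S23.autEquiv23 ⟨π, hπB⟩) = π := by
    change (CfsgL.S23.autEquiv23.symm (CfsgL.S23.autEquiv23 ⟨π, hπB⟩)).1 = π
    rw [MulEquiv.symm_apply_apply]
  rw [this]

theorem M23_eq : Spor.M23 = fx [none] := by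
  ext g
  unfold Spor.M23
  rw [Subgroup.mem_inf, mem_fx, MulAction.mem_stabilizer_iff]
  simp

theorem M22_eq : Spor.M22 = fx [none, some 0] := by
  ext g
  unfold Spor.M22
  rw [Subgroup.mem_inf, M23_eq, mem_fx, mem_fx, MulAction.mem_stabilizer_iff]
  simp [and_assoc]

end CfsgL.Mat
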