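import Cfsg.Agent.L.Mat.Sharp4
import Cfsg.Agent.L.Mat.A23
import Cfsg.Agent.L.Golay.M12b
/-!
Automorphisms of `M11`.
-/
set_option autoImplicit false
set_option maxHeartbeats 400000
namespace CfsgL.Mat
open Cfsg CfsgL.Comp CfsgL.Golay CfsgL.Orb
open scoped Pointwise

/-- an invariant subset gives a homomorphism -/
def subHom {Ω : Type*} (G : Subgroup (Equiv.Perm Ω)) (S : Finset Ω)
    (h : ∀ g ∈ G, ∀ x, g x ∈ S ↔ x ∈ S) : G →* Equiv.Perm {x // x ∈ S} where
  toFun g := Equiv.Perm.subtypePerm g.1 (fun x => h g.1 g.2 x)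
  map_one' := by ext x; rfl
  map_mul' g h := by ext x; rfl

/-- elements of a dodecad stabiliser fix at most four of its points -/
theorem fix_dod_le {d : Finset GolayPt} (hd : d ∈ dodecads) {g : Equiv.Perm GolayPt}
    (hg : g ∈ st d) (h1 : g ≠ 1) : (d.filter (fun x => g x = x)).card ≤ 4 := by
  by_contra hcon
  push Not at hcon
  obtain ⟨f, hf⟩ := exists_emb (s := d.filter (fun x => g x = x)) (n := 5) (by omega)
  apply h1
  exact sharp hd f (fun i => (Finset.mem_filter.1 (hf i)).1) hg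
    (fun i => (Finset.mem_filter.1 (hf i)).2)

variable {d : Finset GolayPt} {p : GolayPt}

theorem st1_inv (hg : ∀ {g}, g ∈ st1 d p → True) {g : Equiv.Perm GolayPt} (h : g ∈ st1 d p)
    (x : GolayPt) : g x ∈ d.erase p ↔ x ∈ d.erase p := by
  obtain ⟨h1, h2⟩ := mem_st1.1 h
  rw [Finset.mem_erase, Finset.mem_erase, smul_mem_of_st h1]
  constructor
  · rintro ⟨h3, h4⟩
    exact ⟨fun h5 => h3 (by rw [h5, h2]), h4⟩
  · rintro ⟨h3, h4⟩
    exact ⟨fun h5 => h3 (g.injective (h5.trans h2.symm)), h4⟩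

/-- the action on eleven points -/
def phi11 (d : Finset GolayPt) (p : GolayPt) : st1 d p →* Equiv.Perm {x // x ∈ d.erase p} :=
  subHom (st1 d p) (d.erase p) (fun _ h x => st1_inv (fun _ => trivial) h x)

theorem phi11_apply (g : st1 d p) (x : {x // x ∈ d.erase p}) : (phi11 d p g x).1 = g.1 x.1 := rfl

/-- prepend the point -/
def consE (hp : p ∈ d) (f : Fin 4 ↪ {x // x ∈ d.erase p}) : Fin 5 ↪ GolayPt :=
  ⟨Fin.cons p (fun i => (f i).1), by
    rw [Fin.cons_injective_iff]
    constructor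
    · rintro ⟨i, hi⟩
      exact (Finset.mem_erase.1 (f i).2).1 hi
    · intro i j h
      exact f.injective (Subtype.ext h)⟩

theorem phi11_tr (hd : d ∈ dodecads) (hp : p ∈ d) (f f' : Fin 4 ↪ {x // x ∈ d.erase p}) :
    ∃ g ∈ (phi11 d p).range, ∀ i, g (f i) = f' i := by
  have hmem : ∀ f : Fin 4 ↪ {x // x ∈ d.erase p}, ∀ i, consE hp f i ∈ d := by
    intro f i
    refine Fin.cases ?_ (fun j => ?_) i
    · exact hp
    · exact Finset.mem_of_mem_erase (f j).2
  obtain ⟨g, hg, h⟩ := dod_five_trans hd (consE hp f) (consE hp f') (hmem f) (hmem f')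
  have h0 : g p = p := h 0
  refine ⟨phi11 d p ⟨g, mem_st1.2 ⟨hg, h0⟩⟩, ⟨_, rfl⟩, fun i => ?_⟩
  apply Subtype.ext
  rw [phi11_apply]
  exact h i.succ

theorem phi11_sharp (hd : d ∈ dodecads) (hp : p ∈ d) (f : Fin 4 ↪ {x // x ∈ d.erase p})
    (g : st1 d p) (h : ∀ i, phi11 d p g (f i) = f i) : g = 1 := by
  apply Subtype.ext
  apply sharp hd (consE hp f) _ (mem_st1.1 g.2).1
  · intro i
    refine Fin.cases ?_ (fun j => ?_) i
    · exact (mem_st1.1 g.2).2
    · exact congrArg Subtype.val (h j)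
  · intro i
    refine Fin.cases ?_ (fun j => ?_) i
    · exact hp
    · exact Finset.mem_of_mem_erase (f j).2

theorem card_X11 (hd : d ∈ dodecads) (hp : p ∈ d) : Fintype.card {x // x ∈ d.erase p} = 11 := by
  rw [Fintype.card_coe, Finset.card_erase_of_mem hp, card_dodecad hd]

theorem phi11_inj (hd : d ∈ dodecads) (hp : p ∈ d) : Function.Injective (phi11 d p) := by
  rw [injective_iff_map_eq_one]
  intro g hg
  have h11 : Fintype.card (Fin 4) ≤ Fintype.card {x // x ∈ d.erase p} := by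
    rw [card_X11 hd hp, Fintype.card_fin]; norm_num
  obtain ⟨f⟩ := Function.Embedding.nonempty_of_card_le h11
  exact phi11_sharp hd hp f g (fun i => by rw [hg]; rfl)

theorem M11_fixes (hd : d ∈ dodecads) (hp : p ∈ d) (α : MulAut (st1 d p))
    (x0 : {x // x ∈ d.erase p}) :
    ∃ y : {x // x ∈ d.erase p}, ∀ g : st1 d p, g.1 x0.1 = x0.1 → (α g).1 y.1 = y.1 := by
  let S : Subgroup (st1 d p) := MulAction.stabilizer (st1 d p) x0.1
  let L := img2 α S
  have hLG : L ≤ st1 d p := img2_le α S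
  have hLs : L ≤ st d := fun g hg => (hLG hg).1
  have hLp : ∀ g ∈ L, g p = p := fun g hg => (hLG hg).2
  have horb : orb (st1 d p) x0.1 = d.erase p := by
    ext y
    rw [mem_orb]
    constructor
    · rintro ⟨g, hg, rfl⟩
      rw [st1_inv (fun _ => trivial) hg]; exact x0.2
    · intro hy
      have hx : x0.1 ∈ d ∧ x0.1 ≠ p := ⟨Finset.mem_of_mem_erase x0.2, Finset.ne_of_mem_erase x0.2⟩
      have hy' : y ∈ d ∧ y ≠ p := ⟨Finset.mem_of_mem_erase hy, Finset.ne_of_mem_erase hy⟩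
      obtain ⟨f, hf, h0, h1⟩ := exists_emb_ext2 (s := d) (n := 3)
        (by rw [card_dodecad hd]; norm_num) hp hx.1 (Ne.symm hx.2)
      obtain ⟨f', hf', h0', h1'⟩ := exists_emb_ext2 (s := d) (n := 3)
        (by rw [card_dodecad hd]; norm_num) hp hy'.1 (Ne.symm hy'.2)
      obtain ⟨g, hg, h⟩ := dod_five_trans hd f f' hf hf'
      have h2 := h 0
      have h3 := h 1
      rw [h0, h0'] at h2
      rw [h1, h1'] at h3
      exact ⟨g, mem_st1.2 ⟨hg, h2⟩, h3⟩
  have hde : (d.erase p).card = 11 := by rw [Finset.card_erase_of_mem hp, card_dodecad hd]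
  have hLc : Nat.card L = 720 := by
    have h1 := card_orb (st1 d p) x0.1
    rw [horb, card_M11 hd hp, hde] at h1
    rw [card_img2]
    have h2 : Nat.card S = Nat.card ↥(st1 d p ⊓ MulAction.stabilizer (Equiv.Perm GolayPt) x0.1) := by
      have h3 : S = (st1 d p ⊓ MulAction.stabilizer (Equiv.Perm GolayPt) x0.1).subgroupOf (st1 d p) := by
        ext g
        rw [Subgroup.mem_subgroupOf, MulAction.mem_stabilizer_iff, Subgroup.mem_inf,
          MulAction.mem_stabilizer_iff]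
        exact ⟨fun h => ⟨g.2, h⟩, fun h => h.2⟩
      rw [h3]
      exact Nat.card_congr (Subgroup.subgroupOfEquivOfLe inf_le_left).toEquiv
    rw [h2]
    omega
  haveI : Fact (Nat.Prime 5) := ⟨by norm_num⟩
  obtain ⟨z, hz, hz5, hz1⟩ := exists_elt L 5 (by rw [hLc]; norm_num)
  have hzd : ∀ x ∈ d, z x ∈ d := fun x hx => (smul_mem_of_st (hLs hz)).2 hx
  have hzf : (d.filter (fun x => z x = x)).card = 2 := by
    have h1 := card_modEq_fix z hz5 d hzd
    have h2 := fix_dod_le hd (hLs hz) hz1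
    rw [card_dodecad hd] at h1
    unfold Nat.ModEq at h1
    omega
  have hpz : p ∈ d.filter (fun x => z x = x) := Finset.mem_filter.2 ⟨hp, hLp z hz⟩
  obtain ⟨x1, hx1⟩ : ∃ x1, (d.filter (fun x => z x = x)).erase p = {x1} := by
    rw [← Finset.card_eq_one, Finset.card_erase_of_mem hpz, hzf]
  have hx1' : x1 ∈ (d.filter (fun x => z x = x)).erase p := by rw [hx1]; simp
  have hx1n : x1 ∈ d.erase p := by
    rw [Finset.mem_erase, Finset.mem_filter] at hx1'
    exact Finset.mem_erase.2 ⟨hx1'.1, hx1'.2.1⟩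
  have hO : orb L x1 ⊆ d.erase p := by
    intro v hv
    obtain ⟨g, hg, rfl⟩ := mem_orb.1 hv
    exact (st1_inv (fun _ => trivial) (hLG hg) _).2 hx1n
  have hmod := orb_modEq (x := x1) hz hz5
  have h1 : ((orb L x1).filter (fun y => z y = y)).card = 1 := by
    rw [Finset.card_eq_one]
    refine ⟨x1, ?_⟩
    ext v
    rw [Finset.mem_filter, ← hx1, Finset.mem_erase, Finset.mem_filter]
    constructor
    · rintro ⟨h2, h3⟩
      have h4 := hO h2
      rw [Finset.mem_erase] at h4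
      exact ⟨h4.1, h4.2, h3⟩
    · rintro ⟨h2, h3, h3'⟩
      have h4 : v ∈ (d.filter (fun x => z x = x)).erase p :=
        Finset.mem_erase.2 ⟨h2, Finset.mem_filter.2 ⟨h3, h3'⟩⟩
      rw [hx1, Finset.mem_singleton] at h4
      rw [h4] at h3' ⊢
      exact ⟨self_mem_orb L x1, h3'⟩
  rw [h1] at hmod
  have h2 : (orb L x1).card ≤ 11 := by
    rw [← hde]
    exact Finset.card_le_card hO
  have h3 : (orb L x1).card = 1 ∨ (orb L x1).card = 6 ∨ (orb L x1).card = 11 := by
    unfold Nat.ModEq at hmod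
    omega
  rcases h3 with h3 | h3 | h3
  · exact ⟨⟨x1, hx1n⟩, fun g hg => fixed_of_card_orb h3 _ (mem_img2 hg)⟩
  · exfalso
    let T : Finset GolayPt := d.erase p \ orb L x1
    have hT : T.card = 5 := by
      rw [Finset.card_sdiff_of_subset hO, hde, h3]
    obtain ⟨g, hg, hg1, hgT⟩ := exists_ker L T (by
      intro g hg x hx
      rw [Finset.mem_sdiff] at hx ⊢
      exact ⟨(st1_inv (fun _ => trivial) (hLG hg) _).2 hx.1, fun h => hx.2 (orb_inv' hg h)⟩) (by
        rw [hT, hLc]; decide)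
    have h4 := fix_dod_le hd (hLs hg) hg1
    have h5 : T ⊆ d.filter (fun x => g x = x) := by
      intro v hv
      exact Finset.mem_filter.2 ⟨Finset.mem_of_mem_erase (Finset.mem_sdiff.1 hv).1, hgT v hv⟩
    have h6 := Finset.card_le_card h5
    omega
  · exfalso
    have h4 := card_orb_dvd L x1
    rw [h3, hLc] at h4
    norm_num at h4

theorem M11_inner (hd : d ∈ dodecads) (hp : p ∈ d) (α : MulAut (st1 d p)) :
    ∃ g, α = MulAut.conj g := by
  have h11 : Fintype.card (Fin 4) ≤ Fintype.card {x // x ∈ d.erase p} := by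
    rw [card_X11 hd hp, Fintype.card_fin]; norm_num
  obtain ⟨f⟩ := Function.Embedding.nonempty_of_card_le h11
  obtain ⟨y, hy⟩ := M11_fixes hd hp α (f 0)
  have htr := phi11_tr hd hp
  obtain ⟨π, hπ⟩ := exists_perm (phi11 d p) (fun a b => by
    obtain ⟨-, ⟨g, rfl⟩, h⟩ := htr (f.trans (Equiv.swap (f 0) a).toEmbedding)
      (f.trans (Equiv.swap (f 0) b).toEmbedding)
    refine ⟨g, ?_⟩
    have := h 0
    simpa using this) α (f 0) y (fun g hg => by
    apply Subtype.ext
    rw [phi11_apply]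
    exact hy g (congrArg Subtype.val hg))
  obtain ⟨-, ⟨k, rfl⟩, hk⟩ := htr f (f.trans π.toEmbedding)
  have hk' : ∀ i, phi11 d p k (f i) = π (f i) := hk
  have hn : ∀ g ∈ (phi11 d p).range, ((phi11 d p k)⁻¹ * π) * g * ((phi11 d p k)⁻¹ * π)⁻¹ ∈
      (phi11 d p).range := by
    rintro _ ⟨g, rfl⟩
    refine ⟨k⁻¹ * α g * k, ?_⟩
    rw [map_mul, map_mul, hπ, map_inv]
    group
  have hone := sharp4_normal (card_X11 hd hp) (phi11 d p).range htr (by
    rintro f _ ⟨g, rfl⟩ h
    rw [phi11_sharp hd hp f g h, map_one]) (by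
      rw [← card_M11 hd hp]
      exact (Nat.card_congr (MonoidHom.ofInjective (phi11_inj hd hp)).toEquiv).symm)
    ((phi11 d p k)⁻¹ * π) f (by
      intro i
      rw [Equiv.Perm.mul_apply, ← hk' i]; simp) hn
  have hπk : π = phi11 d p k := (inv_mul_eq_one.1 hone).symm
  refine ⟨k, ?_⟩
  ext g : 1
  apply phi11_inj hd hp
  rw [hπ, hπk, MulAut.conj_apply, map_mul, map_mul, map_inv]

theorem sqD_eq : Cfsg.Spor.squareDodecad = D0 := by
  unfold Cfsg.Spor.squareDodecad D0
  decide +kernel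

theorem M12_eq : Spor.M12 = st D0 := by
  unfold Spor.M12 st
  rw [sqD_eq]

theorem M11_eq : Spor.M11 = st1 D0 (some 0) := by
  unfold Spor.M11 st1
  rw [M12_eq]

theorem zero_mem_D0 : (some 0 : GolayPt) ∈ D0 := by decide +kernel

end CfsgL.Mat
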