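import Cfsg.Agent.L.Mat.Ord8
import Cfsg.Agent.L.Golay.Hexads
import Cfsg.Agent.L.Orb.FamInst
/-!
Automorphisms of `M12`.
-/
set_option autoImplicit false
set_option maxHeartbeats 400000
namespace CfsgL.Mat
open Cfsg CfsgL.Comp CfsgL.Golay CfsgL.Orb
open scoped Pointwise

theorem D0c_mem : D0ᶜ ∈ dodecads := compl_dodecad D0_mem

theorem smul_cpl (g : Equiv.Perm GolayPt) (s : Finset GolayPt) : g • sᶜ = (g • s)ᶜ := by
  ext x
  rw [Finset.mem_compl, ← Finset.inv_smul_mem_iff, ← Finset.inv_smul_mem_iff, Finset.mem_compl]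

/-- a swapping element -/
theorem exists_swap : ∃ τ ∈ M24, τ • D0 = D0ᶜ ∧ τ • D0ᶜ = D0 := by
  obtain ⟨τ, hτ, h⟩ := dodecad_trans D0_mem D0c_mem
  refine ⟨τ, hτ, h, ?_⟩
  rw [smul_cpl, h, compl_compl]

theorem card_orb_cases (S : Finset GolayPt) (hS : S.card = 12) (L : Subgroup (Equiv.Perm GolayPt))
    (hinv : ∀ g ∈ L, ∀ x ∈ S, g x ∈ S) (h4 : ∀ g ∈ L, g ≠ 1 → (S.filter (fun x => g x = x)).card ≤ 4)
    (hL : Nat.card L = 7920) (hno : ¬ ∃ y ∈ S, ∀ g ∈ L, g y = y) :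
    ∀ x ∈ S, Nat.card ↥(L ⊓ MulAction.stabilizer (Equiv.Perm GolayPt) x) = 660 := by
  haveI : Fact (Nat.Prime 11) := ⟨by norm_num⟩
  obtain ⟨z, hz, hz11, hz1⟩ := exists_elt L 11 (by rw [hL]; norm_num)
  have h1 := card_modEq_fix z hz11 S (hinv z hz)
  have h2 := h4 z hz hz1
  have h3 : (S.filter (fun x => z x = x)).card = 1 := by
    unfold Nat.ModEq at h1
    omega
  obtain ⟨x1, hx1⟩ := Finset.card_eq_one.1 h3
  have hx1m : x1 ∈ S.filter (fun x => z x = x) := by rw [hx1]; simp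
  rw [Finset.mem_filter] at hx1m
  have hO : orb L x1 ⊆ S := by
    intro v hv
    obtain ⟨g, hg, rfl⟩ := mem_orb.1 hv
    exact hinv g hg _ hx1m.1
  have hmod := orb_modEq (x := x1) hz hz11
  have h5 : ((orb L x1).filter (fun y => z y = y)).card = 1 := by
    rw [Finset.card_eq_one]
    refine ⟨x1, ?_⟩
    rw [← hx1]
    ext v
    rw [Finset.mem_filter, Finset.mem_filter]
    constructor
    · rintro ⟨a, b⟩
      exact ⟨hO a, b⟩
    · rintro ⟨a, b⟩
      have h6 : v ∈ S.filter (fun x => z x = x) := Finset.mem_filter.2 ⟨a, b⟩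
      rw [hx1, Finset.mem_singleton] at h6
      rw [h6] at b ⊢
      exact ⟨self_mem_orb L x1, b⟩
  rw [h5] at hmod
  have h6 : (orb L x1).card ≤ 12 := by
    rw [← hS]; exact Finset.card_le_card hO
  have h7 : (orb L x1).card = 1 ∨ (orb L x1).card = 12 := by
    unfold Nat.ModEq at hmod
    omega
  rcases h7 with h7 | h7
  · exact absurd ⟨x1, hx1m.1, fixed_of_card_orb h7⟩ hno
  · have h8 : orb L x1 = S := Finset.eq_of_subset_of_card_le hO (by rw [h7, hS])
    intro x hx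
    have h9 : orb L x = S := by
      rw [← h8] at hx ⊢
      obtain ⟨g, hg, rfl⟩ := mem_orb.1 hx
      ext y
      rw [mem_orb, mem_orb]
      constructor
      · rintro ⟨k, hk, rfl⟩
        exact ⟨k * g, L.mul_mem hk hg, rfl⟩
      · rintro ⟨k, hk, rfl⟩
        exact ⟨k * g⁻¹, L.mul_mem hk (L.inv_mem hg), by simp⟩
    have h10 := card_orb L x
    rw [h9, hS, hL] at h10
    omega

theorem M12_fixes (α : MulAut (st D0)) :
    ∃ y : GolayPt, ∀ g : st D0, g.1 (some 0) = some 0 → (α g).1 y = y := by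
  let S : Subgroup (st D0) := (st1 D0 (some 0)).subgroupOf (st D0)
  let L := img2 α S
  have hLG : L ≤ st D0 := img2_le α S
  have hLM : L ≤ M24 := fun g hg => (hLG hg).1
  have hle : st1 D0 (some 0) ≤ st D0 := inf_le_left
  have hLc : Nat.card L = 7920 := by
    rw [← card_M11 D0_mem zero_mem_D0, card_img2]
    exact Nat.card_congr (Subgroup.subgroupOfEquivOfLe hle).toEquiv
  obtain ⟨z0, hz0, hz8, hz4⟩ := exists_e8
  let z : st D0 := ⟨z0, hle hz0⟩
  have hzS : z ∈ S := by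
    rw [Subgroup.mem_subgroupOf]
    exact hz0
  have hzL : (α z).1 ∈ L := mem_img2 hzS
  have hw8 : (α z).1 ^ 8 = 1 := by
    have h1 : z ^ 8 = 1 := Subtype.ext hz8
    have h2 : (α z) ^ 8 = 1 := by rw [← map_pow, h1, map_one]
    exact congrArg Subtype.val h2
  have hw4 : (α z).1 ^ 4 ≠ 1 := by
    intro h1
    have h2 : (α z) ^ 4 = 1 := Subtype.ext h1
    rw [← map_pow, map_eq_one_iff _ α.injective] at h2
    exact hz4 (congrArg Subtype.val h2)
  obtain ⟨q, hq⟩ := ord8_fixed (α z).2 hw8 hw4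
  -- the stabiliser of `q` in `L` has order divisible by 8
  have hdvd : 8 ∣ Nat.card ↥(L ⊓ MulAction.stabilizer (Equiv.Perm GolayPt) q) := by
    have h1 : orderOf (α z).1 = 8 := by
      haveI : Fact (Nat.Prime 2) := ⟨Nat.prime_two⟩
      have := orderOf_eq_prime_pow (p := 2) (n := 2) (x := (α z).1) (by exact hw4) (by exact hw8)
      exact this
    have h2 : (α z).1 ∈ L ⊓ MulAction.stabilizer (Equiv.Perm GolayPt) q := ⟨hzL, hq⟩
    rw [← h1, ← Subgroup.orderOf_mk (α z).1 h2]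
    exact orderOf_dvd_natCard _
  by_contra hcon
  push Not at hcon
  have hno : ∀ y, ¬ ∀ g ∈ L, g y = y := by
    intro y hy
    obtain ⟨g, hg, hne⟩ := hcon y
    exact hne (hy _ (mem_img2 (by
      rw [Subgroup.mem_subgroupOf]
      exact ⟨g.2, hg⟩)))
  have hcompl : st D0 = st D0ᶜ := by
    ext g
    rw [mem_st, mem_st, smul_cpl, compl_inj_iff]
  by_cases hqd : q ∈ D0
  · have := card_orb_cases D0 (card_dodecad D0_mem) L
      (fun g hg x hx => (smul_mem_of_st (hLG hg)).2 hx)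
      (fun g hg h1 => fix_dod_le D0_mem (hLG hg) h1) hLc (fun ⟨y, _, hy⟩ => hno y hy) q hqd
    rw [this] at hdvd
    norm_num at hdvd
  · have := card_orb_cases D0ᶜ (card_dodecad D0c_mem) L
      (fun g hg x hx => (smul_mem_of_st (hcompl ▸ hLG hg)).2 hx)
      (fun g hg h1 => fix_dod_le D0c_mem (hcompl ▸ hLG hg) h1) hLc (fun ⟨y, _, hy⟩ => hno y hy) q
      (Finset.mem_compl.2 hqd)
    rw [this] at hdvd
    norm_num at hdvd


/-- the action on the dodecad -/
def phi12 : st D0 →* Equiv.Perm {x // x ∈ D0} :=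
  subHom (st D0) D0 (fun _ h _ => smul_mem_of_st h)

theorem phi12_apply (g : st D0) (x : {x // x ∈ D0}) : (phi12 g x).1 = g.1 x.1 := rfl

theorem phi12_inj : Function.Injective phi12 := by
  rw [injective_iff_map_eq_one]
  intro g hg
  have h1 : ∀ x ∈ D0, g.1 x = x := by
    intro x hx
    have := congrArg (fun k => (k ⟨x, hx⟩).1) hg
    exact this
  apply Subtype.ext
  apply M12_base_trivial g.2 <;> exact h1 _ (D0_five _ (by simp))

theorem st1_tr {x y : GolayPt} (hx : x ∈ D0) (hy : y ∈ D0) : ∃ g ∈ st D0, g x = y := by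
  obtain ⟨f, hf, h0⟩ := exists_emb_ext (s := D0) (n := 4) (by rw [card_dodecad D0_mem]; norm_num) hx
  obtain ⟨f', hf', h0'⟩ := exists_emb_ext (s := D0) (n := 4)
    (by rw [card_dodecad D0_mem]; norm_num) (a := y) hy
  obtain ⟨g, hg, h⟩ := dod_five_trans D0_mem f f' hf hf'
  refine ⟨g, hg, ?_⟩
  have := h 0
  rw [h0, h0'] at this
  exact this

theorem st_tr3 {a b c a' b' c' : GolayPt} (ha : a ∈ D0) (hb : b ∈ D0) (hc : c ∈ D0) (hab : a ≠ b)
    (hac : a ≠ c) (hbc : b ≠ c) (ha' : a' ∈ D0) (hb' : b' ∈ D0) (hc' : c' ∈ D0) (hab' : a' ≠ b')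
    (hac' : a' ≠ c') (hbc' : b' ≠ c') : ∃ g ∈ st D0, g a = a' ∧ g b = b' ∧ g c = c' := by
  obtain ⟨f, hf, h0, h1, h2⟩ := exists_emb_ext3 (s := D0) (n := 2)
    (by rw [card_dodecad D0_mem]; norm_num) ha hb hc hab hac hbc
  obtain ⟨f', hf', h0', h1', h2'⟩ := exists_emb_ext3 (s := D0) (n := 2)
    (by rw [card_dodecad D0_mem]; norm_num) ha' hb' hc' hab' hac' hbc'
  obtain ⟨g, hg, h⟩ := dod_five_trans D0_mem f f' hf hf'
  have e0 := h 0
  have e1 := h 1
  have e2 := h 2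
  rw [h0, h0'] at e0
  rw [h1, h1'] at e1
  rw [h2, h2'] at e2
  exact ⟨g, hg, e0, e1, e2⟩

/-- an automorphism that fixes the point stabiliser elementwise is trivial -/
theorem aut_eq_one {γ : MulAut (st D0)} (h : ∀ g : st D0, g.1 (some 0) = some 0 → γ g = g) :
    γ = 1 := by
  let p : {x // x ∈ D0} := ⟨some 0, zero_mem_D0⟩
  obtain ⟨π, hπ⟩ := exists_perm phi12 (fun a b => by
    obtain ⟨g, hg, hab⟩ := st1_tr a.2 b.2
    exact ⟨⟨g, hg⟩, Subtype.ext hab⟩) γ p p (fun g hg => by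
      rw [h g (congrArg Subtype.val hg)]; exact hg)
  have hcm : ∀ g : st D0, g.1 (some 0) = some 0 → ∀ x, phi12 g (π x) = π (phi12 g x) := by
    intro g hg x
    have h1 := hπ g
    rw [h g hg, eq_mul_inv_iff_mul_eq] at h1
    exact congrArg (fun k => k x) h1
  have hπp : π p = p := by
    by_contra hne
    -- move the image
    have hne' : (π p).1 ≠ some 0 := fun h1 => hne (Subtype.ext h1)
    obtain ⟨c, hc⟩ : ∃ c, c ∈ D0 \ {some 0, (π p).1} := by
      apply Finset.card_pos.1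
      have h1 := Finset.le_card_sdiff {some 0, (π p).1} D0
      have h2 : ({some 0, (π p).1} : Finset GolayPt).card ≤ 2 := Finset.card_le_two
      rw [card_dodecad D0_mem] at h1
      omega
    rw [Finset.mem_sdiff, Finset.mem_insert, Finset.mem_singleton, not_or] at hc
    obtain ⟨d, hd⟩ : ∃ d, d ∈ D0 \ {some 0, (π p).1, c} := by
      apply Finset.card_pos.1
      have h1 := Finset.le_card_sdiff {some 0, (π p).1, c} D0
      have h2 : ({some 0, (π p).1, c} : Finset GolayPt).card ≤ 3 := Finset.card_le_three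
      rw [card_dodecad D0_mem] at h1
      omega
    obtain ⟨g, hg, g1, g2, -⟩ := st_tr3 zero_mem_D0 (π p).2 hc.1 (Ne.symm hne') (Ne.symm hc.2.1)
      (Ne.symm hc.2.2) zero_mem_D0 hc.1 (π p).2 (Ne.symm hc.2.1) (Ne.symm hne') hc.2.2
    have h1 := congrArg Subtype.val (hcm ⟨g, hg⟩ g1 p)
    rw [phi12_apply] at h1
    have h2 : phi12 ⟨g, hg⟩ p = p := Subtype.ext g1
    rw [h2] at h1
    change g (π p).1 = (π p).1 at h1
    rw [g2] at h1
    exact hc.2.2 h1
  have hone : π = 1 := by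
    ext x : 1
    change π x = x
    by_cases hxp : x = p
    · rw [hxp, hπp]
    by_contra hne
    have hx0 : x.1 ≠ some 0 := fun h1 => hxp (Subtype.ext h1)
    have hπx0 : (π x).1 ≠ some 0 := by
      intro h1
      apply hxp
      apply π.injective
      rw [hπp]
      exact Subtype.ext h1
    have hxx : x.1 ≠ (π x).1 := fun h1 => hne (Subtype.ext h1.symm)
    obtain ⟨c, hc⟩ : ∃ c, c ∈ D0 \ {some 0, x.1, (π x).1} := by
      apply Finset.card_pos.1
      have h1 := Finset.le_card_sdiff {some 0, x.1, (π x).1} D0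
      have h2 : ({some 0, x.1, (π x).1} : Finset GolayPt).card ≤ 3 := Finset.card_le_three
      rw [card_dodecad D0_mem] at h1
      omega
    rw [Finset.mem_sdiff, Finset.mem_insert, Finset.mem_insert, Finset.mem_singleton, not_or,
      not_or] at hc
    obtain ⟨g, hg, g1, g2, g3⟩ := st_tr3 zero_mem_D0 x.2 (π x).2 (Ne.symm hx0) (Ne.symm hπx0) hxx
      zero_mem_D0 x.2 hc.1 (Ne.symm hx0) (Ne.symm hc.2.1) (Ne.symm hc.2.2.1)
    have h1 := congrArg Subtype.val (hcm ⟨g, hg⟩ g1 x)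
    rw [phi12_apply] at h1
    have h2 : phi12 ⟨g, hg⟩ x = x := Subtype.ext g2
    rw [h2] at h1
    change g (π x).1 = (π x).1 at h1
    rw [g3] at h1
    exact hc.2.2.2 h1
  ext g : 1
  apply phi12_inj
  rw [hπ, hone]; simp

/-- automorphisms sending the point stabiliser to a stabiliser of a point of the dodecad -/
theorem inner_of_fix {α : MulAut (st D0)} {y : GolayPt} (hy : y ∈ D0)
    (h : ∀ g : st D0, g.1 (some 0) = some 0 → (α g).1 y = y) : ∃ k, α = MulAut.conj k := by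
  obtain ⟨k0, hk0, hky⟩ := st1_tr hy zero_mem_D0
  let β : MulAut (st D0) := MulAut.conj ⟨k0, hk0⟩ * α
  have hβ : ∀ g : st D0, g.1 (some 0) = some 0 → (β g).1 (some 0) = some 0 := by
    intro g hg
    change k0 ((α g).1 (k0⁻¹ (some 0))) = some 0
    have h1 : k0⁻¹ (some 0) = y := by rw [← hky]; simp
    rw [h1, h g hg, hky]
  -- restriction
  let ψ : st1 D0 (some 0) →* st1 D0 (some 0) :=
    { toFun := fun g => ⟨(β ⟨g.1, g.2.1⟩).1, (β ⟨g.1, g.2.1⟩).2, hβ ⟨g.1, g.2.1⟩ g.2.2⟩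
      map_one' := by
        apply Subtype.ext
        have h1 : β 1 = 1 := map_one β
        exact (congrArg Subtype.val h1 :)
      map_mul' := fun a b => by
        apply Subtype.ext
        have h1 := map_mul β ⟨a.1, a.2.1⟩ ⟨b.1, b.2.1⟩
        exact (congrArg Subtype.val h1 :) }
  have hψ : Function.Injective ψ := by
    intro a b hab
    have h1 : β ⟨a.1, a.2.1⟩ = β ⟨b.1, b.2.1⟩ := Subtype.ext (congrArg Subtype.val hab :)
    have h2 := β.injective h1
    exact Subtype.ext (congrArg Subtype.val h2 :)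
  let ψ' : MulAut (st1 D0 (some 0)) :=
    MulEquiv.ofBijective ψ ⟨hψ, Finite.surjective_of_injective hψ⟩
  obtain ⟨k, hk⟩ := M11_inner D0_mem zero_mem_D0 ψ'
  have hγ : (MulAut.conj (⟨k.1, k.2.1⟩ : st D0))⁻¹ * β = 1 := by
    apply aut_eq_one
    intro g hg
    have h1 : (ψ' ⟨g.1, g.2, hg⟩).1 = (MulAut.conj k ⟨g.1, g.2, hg⟩).1 := by rw [hk]
    change (β g).1 = k.1 * g.1 * k.1⁻¹ at h1
    apply Subtype.ext
    change k.1⁻¹ * (β g).1 * k.1 = g.1
    rw [h1]; group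
  have h2 : β = MulAut.conj (⟨k.1, k.2.1⟩ : st D0) := (inv_mul_eq_one.1 hγ).symm
  refine ⟨⟨k0, hk0⟩⁻¹ * ⟨k.1, k.2.1⟩, ?_⟩
  rw [map_mul, map_inv, ← h2]
  change α = (MulAut.conj ⟨k0, hk0⟩)⁻¹ * (MulAut.conj ⟨k0, hk0⟩ * α)
  rw [inv_mul_cancel_left]

/-- conjugation by a swapping element -/
def swAut {τ : Equiv.Perm GolayPt} (hτ : τ ∈ M24) (h1 : τ • D0 = D0ᶜ) (h2 : τ • D0ᶜ = D0) :
    MulAut (st D0) where
  toFun g := ⟨τ * g.1 * τ⁻¹, by
    have hc : τ⁻¹ • D0 = D0ᶜ := by rw [inv_smul_eq_iff, h2]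
    refine mem_st.2 ⟨M24.mul_mem (M24.mul_mem hτ (mem_st.1 g.2).1) (M24.inv_mem hτ), ?_⟩
    rw [mul_smul, mul_smul, hc, smul_cpl, (mem_st.1 g.2).2, h2]⟩
  invFun g := ⟨τ⁻¹ * g.1 * τ, by
    have hc : τ⁻¹ • D0ᶜ = D0 := by rw [inv_smul_eq_iff, h1]
    refine mem_st.2 ⟨M24.mul_mem (M24.mul_mem (M24.inv_mem hτ) (mem_st.1 g.2).1) hτ, ?_⟩
    rw [mul_smul, mul_smul, h1, smul_cpl, (mem_st.1 g.2).2, hc]⟩
  left_inv g := by apply Subtype.ext; change τ⁻¹ * (τ * g.1 * τ⁻¹) * τ = g.1; group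
  right_inv g := by apply Subtype.ext; change τ * (τ⁻¹ * g.1 * τ) * τ⁻¹ = g.1; group
  map_mul' g h := by
    apply Subtype.ext
    change τ * (g.1 * h.1) * τ⁻¹ = (τ * g.1 * τ⁻¹) * (τ * h.1 * τ⁻¹)
    group

theorem card_out12 : Nat.card (Cfsg.Out (st D0)) = 2 := by
  obtain ⟨τ, hτ, h1, h2⟩ := exists_swap
  let c := swAut hτ h1 h2
  have hcn : c ∉ Cfsg.Inn (st D0) := by
    rintro ⟨k, hk⟩
    have hm : ∀ g : st D0, τ * g.1 * τ⁻¹ = k.1 * g.1 * k.1⁻¹ := by
      intro g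
      exact (congrArg (fun a => (a g).1) hk).symm
    -- the point
    let q := k.1⁻¹ (τ (some 0))
    have hq : q ∉ D0 := by
      intro hq
      have h3 : k.1 q ∈ D0 := (smul_mem_of_st k.2).2 hq
      have h4 : k.1 q = τ (some 0) := by simp [q]
      rw [h4] at h3
      have h5 : τ (some 0) ∈ τ • D0 := Finset.smul_mem_smul_finset zero_mem_D0
      rw [h1, Finset.mem_compl] at h5
      exact h5 h3
    have hfix : ∀ g ∈ st1 D0 (some 0), g q = q := by
      intro g hg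
      have h3 := hm ⟨g, hg.1⟩
      have h4 := congrArg (fun a => k.1⁻¹ (a (τ (some 0)))) h3
      simp only [Equiv.Perm.mul_apply, Equiv.Perm.coe_inv, Equiv.symm_apply_apply] at h4
      change k.1.symm (τ (g (some 0))) = g (k.1.symm (τ (some 0))) at h4
      have h5 : g (some 0) = some 0 := hg.2
      rw [h5] at h4
      exact h4.symm
    obtain ⟨a, ha, haq⟩ : ∃ a, a ∉ D0 ∧ a ≠ q := by
      have h3 : 0 < (D0ᶜ \ {q}).card := by
        have h4 := Finset.le_card_sdiff {q} D0ᶜ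
        rw [card_dodecad D0c_mem, Finset.card_singleton] at h4
        omega
      obtain ⟨a, ha⟩ := Finset.card_pos.1 h3
      rw [Finset.mem_sdiff, Finset.mem_compl, Finset.mem_singleton] at ha
      exact ⟨a, ha.1, ha.2⟩
    obtain ⟨f, hf, h0⟩ := exists_emb_ext (s := D0ᶜ) (n := 2)
      (by rw [card_dodecad D0c_mem]; norm_num) (Finset.mem_compl.2 hq)
    obtain ⟨f', hf', h0'⟩ := exists_emb_ext (s := D0ᶜ) (n := 2)
      (by rw [card_dodecad D0c_mem]; norm_num) (Finset.mem_compl.2 ha)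
    obtain ⟨g, hg, h⟩ := M11_three_trans D0_mem zero_mem_D0 f f'
      (fun i => Finset.mem_compl.1 (hf i)) (fun i => Finset.mem_compl.1 (hf' i))
    have h3 := h 0
    rw [h0, h0', hfix g hg] at h3
    exact haq h3.symm
  have hidx : (Cfsg.Inn (st D0)).index = 2 := by
    rw [Subgroup.index_eq_two_iff']
    refine ⟨c⁻¹, fun α => ?_⟩
    have key : α ∈ Cfsg.Inn (st D0) ∨ c⁻¹ * α ∈ Cfsg.Inn (st D0) := by
      obtain ⟨y, hy⟩ := M12_fixes α
      by_cases hyD : y ∈ D0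
      · obtain ⟨k, hk⟩ := inner_of_fix hyD hy
        exact Or.inl ⟨k, hk.symm⟩
      · right
        have hyD' : τ⁻¹ y ∈ D0 := by
          have h3 : y ∈ τ • D0 := by rw [h1, Finset.mem_compl]; exact hyD
          rwa [← Finset.inv_smul_mem_iff] at h3
        obtain ⟨k, hk⟩ := inner_of_fix (α := c⁻¹ * α) hyD' (fun g hg => by
          change τ⁻¹ ((α g).1 (τ (τ⁻¹ y))) = τ⁻¹ y
          have h3 : τ (τ⁻¹ y) = y := by simp
          rw [h3, hy g hg])
        exact ⟨k, hk.symm⟩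
    have hnot : ¬ (α ∈ Cfsg.Inn (st D0) ∧ c⁻¹ * α ∈ Cfsg.Inn (st D0)) := by
      rintro ⟨h3, h4⟩
      apply hcn
      have h5 := (Cfsg.Inn (st D0)).mul_mem h4 ((Cfsg.Inn (st D0)).inv_mem h3)
      rw [mul_inv_cancel_right] at h5
      exact (Subgroup.inv_mem_iff _).1 h5
    rcases key with h3 | h3
    · exact Or.inr ⟨h3, fun h4 => hnot ⟨h3, h4⟩⟩
    · exact Or.inl ⟨h3, fun h4 => hnot ⟨h4, h3⟩⟩
  exact hidx

end CfsgL.Mat
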