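import Cfsg.Agent.L.Mat.A23
/-!
Automorphisms of `M22`.
-/
set_option autoImplicit false
set_option maxHeartbeats 400000
namespace CfsgL.Mat
open Cfsg CfsgL.Comp CfsgL.Golay CfsgL.Orb CfsgL.M22b
open scoped Pointwise

/-- the chosen point -/
def p1 : P2 := ⟨some 1, by simp, by decide⟩

theorem M22_fixes (α : MulAut (fx [none, some 0])) :
    ∃ y : P2, ∀ g : fx [none, some 0], g.1 p1.1 = p1.1 → (α g).1 y.1 = y.1 := by
  let S : Subgroup (fx [none, some 0]) := (fx [p1.1, none, some 0]).subgroupOf (fx [none, some 0])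
  let L := img2 α S
  have hLG : L ≤ fx [none, some 0] := img2_le α S
  have hL : L ≤ M24 := fun g hg => (hLG hg).1
  have hLn : ∀ g ∈ L, g none = none := fun g hg => (hLG hg).2 none (by simp)
  have hL0 : ∀ g ∈ L, g (some 0) = some 0 := fun g hg => (hLG hg).2 (some 0) (by simp)
  have hne : (none : GolayPt) ≠ some 0 := by simp
  have hLc : Nat.card L = 20160 := by
    rw [← card_fx3 p1.2.1 p1.2.2 hne, card_img2]
    refine Nat.card_congr (Subgroup.subgroupOfEquivOfLe ?_).toEquiv
    intro g hg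
    exact ⟨hg.1, fun p hp => hg.2 p (List.mem_cons_of_mem _ hp)⟩
  haveI : Fact (Nat.Prime 5) := ⟨by norm_num⟩
  haveI : Fact (Nat.Prime 7) := ⟨by norm_num⟩
  obtain ⟨z, hz, hz7, hz1⟩ := exists_elt L 7 (by rw [hLc]; norm_num)
  obtain ⟨w, hw, hw5, hw1⟩ := exists_elt L 5 (by rw [hLc]; norm_num)
  have hzf := fix7 (hL hz) hz7 hz1
  have hwf := fix5 (hL hw) hw5 hw1
  have hprs : ∀ g ∈ L, ∀ x, (x ≠ none ∧ x ≠ some 0) → (g x ≠ none ∧ g x ≠ some 0) := by
    intro g hg x hx
    refine ⟨fun h => hx.1 ?_, fun h => hx.2 ?_⟩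
    · apply g.injective; rw [h, hLn g hg]
    · apply g.injective; rw [h, hL0 g hg]
  have hsub : ∀ g ∈ L, ({none, some 0} : Finset GolayPt) ⊆ fixset g := by
    intro g hg x hx
    simp only [Finset.mem_insert, Finset.mem_singleton] at hx
    rw [mem_fixset]
    rcases hx with rfl | rfl
    · exact hLn g hg
    · exact hL0 g hg
  have hc2 : ({none, some 0} : Finset GolayPt).card = 2 := Finset.card_pair hne
  obtain ⟨x1, hx1⟩ : ∃ x1, (fixset z) \ {none, some 0} = {x1} := by
    rw [← Finset.card_eq_one, Finset.card_sdiff_of_subset (hsub z hz), hzf, hc2]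
  have hx1' : x1 ∈ (fixset z) \ {none, some 0} := by rw [hx1]; simp
  have hx1n : x1 ≠ none ∧ x1 ≠ some 0 := by
    have := (Finset.mem_sdiff.1 hx1').2
    simpa using this
  have hO : ∀ v ∈ orb L x1, v ≠ none ∧ v ≠ some 0 := by
    intro v hv
    obtain ⟨g, hg, rfl⟩ := mem_orb.1 hv
    exact hprs g hg _ hx1n
  have hmod := orb_modEq (x := x1) hz hz7
  have h1 : ((orb L x1).filter (fun y => z y = y)).card = 1 := by
    rw [Finset.card_eq_one]
    refine ⟨x1, ?_⟩
    ext v
    rw [Finset.mem_filter, ← mem_fixset, ← hx1, Finset.mem_sdiff]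
    constructor
    · rintro ⟨h2, h3⟩
      exact ⟨h3, by simpa using hO v h2⟩
    · rintro ⟨h2, h3⟩
      have h4 : v ∈ (fixset z) \ {none, some 0} := Finset.mem_sdiff.2 ⟨h2, h3⟩
      rw [hx1, Finset.mem_singleton] at h4
      rw [h4] at h2 ⊢
      exact ⟨self_mem_orb L x1, h2⟩
  rw [h1] at hmod
  have hdis : Disjoint (orb L x1) {none, some 0} := by
    rw [Finset.disjoint_left]
    intro v hv hv'
    have := hO v hv
    simp only [Finset.mem_insert, Finset.mem_singleton] at hv'
    rcases hv' with h | h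
    · exact this.1 h
    · exact this.2 h
  have h2 : (orb L x1).card ≤ 22 := by
    have h3 := Finset.card_le_card (Finset.subset_univ (orb L x1 ∪ {none, some 0}))
    rw [card_univ24, Finset.card_union_of_disjoint hdis, hc2] at h3
    omega
  have h3 : (orb L x1).card = 1 ∨ (orb L x1).card = 8 ∨ (orb L x1).card = 15 ∨
      (orb L x1).card = 22 := by
    unfold Nat.ModEq at hmod
    omega
  rcases h3 with h3 | h3 | h3 | h3
  · exact ⟨⟨x1, hx1n⟩, fun g hg => fixed_of_card_orb h3 _ (mem_img2 (by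
      rw [Subgroup.mem_subgroupOf]
      refine ⟨g.2.1, fun p hp => ?_⟩
      rcases List.mem_cons.1 hp with rfl | hp
      · exact hg
      · exact g.2.2 p hp))⟩
  · exfalso
    have h4 := orb_modEq (x := x1) hw hw5
    rw [h3] at h4
    have h5 : ((orb L x1).filter (fun y => w y = y)).card ≤ 2 := by
      have h6 : ((orb L x1).filter (fun y => w y = y)) ∪ {none, some 0} ⊆ fixset w := by
        apply Finset.union_subset _ (hsub w hw)
        intro v hv
        exact mem_fixset.2 (Finset.mem_filter.1 hv).2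
      have h7 := Finset.card_le_card h6
      rw [Finset.card_union_of_disjoint (hdis.mono_left (Finset.filter_subset _ _)), hwf, hc2] at h7
      omega
    unfold Nat.ModEq at h4
    omega
  · exfalso
    let T : Finset GolayPt := Finset.univ \ (orb L x1 ∪ {none, some 0})
    have hT : T.card = 7 := by
      rw [Finset.card_sdiff_of_subset (Finset.subset_univ _), card_univ24,
        Finset.card_union_of_disjoint hdis, hc2, h3]
    obtain ⟨g, hg, hg1, hgT⟩ := exists_ker L T (by
      intro g hg x hx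
      rw [Finset.mem_sdiff, Finset.mem_union, not_or] at hx ⊢
      have h4 := hprs g hg x (by simpa using hx.2.2)
      exact ⟨Finset.mem_univ _, fun h => hx.2.1 (orb_inv' hg h), by simpa using h4⟩) (by
        rw [hT, hLc]; decide)
    have h4 := fix_le8 (hL hg) hg1
    have h5 : T ∪ {none, some 0} ⊆ fixset g := by
      apply Finset.union_subset _ (hsub g hg)
      intro v hv
      exact mem_fixset.2 (hgT v hv)
    have h6 := Finset.card_le_card h5
    rw [Finset.card_union_of_disjoint (by
      rw [Finset.disjoint_left]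
      intro v hv hv'
      exact (Finset.mem_sdiff.1 hv).2 (Finset.mem_union_right _ hv')), hT, hc2] at h6
    omega
  · exfalso
    have h4 := card_orb_dvd L x1
    rw [h3, hLc] at h4
    norm_num at h4

theorem pr_fixed {g : Equiv.Perm GolayPt} (hg : g ∈ fx [none, some 0]) {x : GolayPt}
    (hx : ¬ (x ≠ none ∧ x ≠ some 0)) : g x = x := by
  by_cases h : x = none
  · rw [h]; exact hg.2 _ (by simp)
  · have : x = some 0 := by
      by_contra h'
      exact hx ⟨h, h'⟩
    rw [this]; exact hg.2 _ (by simp)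

theorem conj_mem22 {k g : Equiv.Perm GolayPt} (hk : k ∈ st pr) (hg : g ∈ fx [none, some 0]) :
    k * g * k⁻¹ ∈ fx [none, some 0] := by
  have hk' : k⁻¹ ∈ st pr := (st pr).inv_mem hk
  refine ⟨M24.mul_mem (M24.mul_mem (mem_st.1 hk).1 hg.1) (M24.inv_mem (mem_st.1 hk).1), ?_⟩
  intro p hp
  have h1 : ¬ (k⁻¹ p ≠ none ∧ k⁻¹ p ≠ some 0) := by
    rw [← pres hk' p]
    simp only [List.mem_cons, List.not_mem_nil, or_false] at hp
    rcases hp with rfl | rfl <;> simp
  change k (g (k⁻¹ p)) = p
  rw [pr_fixed hg h1]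
  simp

/-- conjugation by elements of the pair stabiliser -/
def kap (k : st pr) : MulAut (fx [none, some 0]) where
  toFun g := ⟨k.1 * g.1 * k.1⁻¹, conj_mem22 k.2 g.2⟩
  invFun g := ⟨k.1⁻¹ * g.1 * k.1, by
    have := conj_mem22 ((st pr).inv_mem k.2) g.2
    rwa [inv_inv] at this⟩
  left_inv g := by apply Subtype.ext; change k.1⁻¹ * (k.1 * g.1 * k.1⁻¹) * k.1 = g.1; group
  right_inv g := by apply Subtype.ext; change k.1 * (k.1⁻¹ * g.1 * k.1) * k.1⁻¹ = g.1; group
  map_mul' g h := by
    apply Subtype.ext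
    change k.1 * (g.1 * h.1) * k.1⁻¹ = (k.1 * g.1 * k.1⁻¹) * (k.1 * h.1 * k.1⁻¹)
    group

theorem cent22 {m : Equiv.Perm GolayPt} (hm : m ∈ st pr)
    (h : ∀ g ∈ fx [none, some 0], m * g = g * m) : m = 1 := by
  have h1 : ∀ x : P2, m x.1 = x.1 := by
    intro x
    by_contra hne
    have h2 := (pres hm x.1).1 x.2
    obtain ⟨z, hz⟩ := exists_new {none, some 0, x.1, m x.1}
      (lt_of_le_of_lt Finset.card_le_four (by norm_num))
    simp only [Finset.mem_insert, Finset.mem_singleton, not_or] at hz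
    obtain ⟨g, hg, g1, g2, g3, g4⟩ := tr4 (a := none) (b := some 0) (c := x.1) (d := m x.1)
      (a' := none) (b' := some 0) (c' := x.1) (d' := z) (by simp) (Ne.symm x.2.1) (Ne.symm h2.1)
      (Ne.symm x.2.2) (Ne.symm h2.2) (Ne.symm hne) (by simp) (Ne.symm x.2.1) (Ne.symm hz.1)
      (Ne.symm x.2.2) (Ne.symm hz.2.1) (Ne.symm hz.2.2.1)
    have h3 := congrArg (fun k => k x.1) (h g ⟨hg, by
      intro p hp
      simp only [List.mem_cons, List.not_mem_nil, or_false] at hp
      rcases hp with rfl | rfl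
      · exact g1
      · exact g2⟩)
    change m (g x.1) = g (m x.1) at h3
    rw [g3, g4] at h3
    exact hz.2.2.2 h3.symm
  have h2 : rho ⟨m, hm⟩ = 1 := by
    apply Subtype.ext
    ext x : 1
    exact Subtype.ext (h1 x)
  have h3 := rho_inj (h2.trans (map_one rho).symm)
  exact congrArg Subtype.val h3

theorem kap_inj : Function.Injective kap := by
  intro k l h
  have h1 : l.1⁻¹ * k.1 = 1 := by
    apply cent22 ((st pr).mul_mem ((st pr).inv_mem l.2) k.2)
    intro g hg
    have h2 : k.1 * g * k.1⁻¹ = l.1 * g * l.1⁻¹ := congrArg (fun a => (a ⟨g, hg⟩).1) h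
    have h3 : k.1 * g = l.1 * g * l.1⁻¹ * k.1 := by rw [← h2]; group
    rw [mul_assoc, h3]; group
  apply Subtype.ext
  exact (inv_mul_eq_one.1 h1).symm

theorem ex2_eq (b : Finset P2) :
    b.map (Function.Embedding.subtype _) ∪ {(none : GolayPt), some 0} = ex2 b := by
  ext x
  rw [mem_ex2]
  simp only [Finset.mem_union, Finset.mem_map, Function.Embedding.subtype_apply,
    Finset.mem_insert, Finset.mem_singleton]
  constructor
  · rintro (⟨y, hy, rfl⟩ | h | h)
    · exact Or.inr (Or.inr ⟨y.2, hy⟩)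
    · exact Or.inl h
    · exact Or.inr (Or.inl h)
  · rintro (h | h | ⟨h, h'⟩)
    · exact Or.inr (Or.inl h)
    · exact Or.inr (Or.inr h)
    · exact Or.inl ⟨_, h', rfl⟩

theorem kap_surj : Function.Surjective kap := by
  intro α
  obtain ⟨y, hy⟩ := M22_fixes α
  let φ : fx [none, some 0] →* Equiv.Perm P2 :=
    (setSystemAut B22).subtype.comp (rho.comp (Subgroup.inclusion fx_le_st))
  have hφ : ∀ g x, (φ g x).1 = g.1 x.1 := fun g x => rfl
  have hinj : Function.Injective φ :=
    (Subgroup.subtype_injective _).comp (rho_inj.comp (Subgroup.inclusion_injective _))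
  obtain ⟨π, hπ⟩ := exists_perm φ (fun x y => by
    obtain ⟨g, hg, h1, h2, h3⟩ := tr3 (a := none) (b := some 0) (c := x.1) (a' := none)
      (b' := some 0) (c' := y.1) (by simp) (Ne.symm x.2.1) (Ne.symm x.2.2) (by simp)
      (Ne.symm y.2.1) (Ne.symm y.2.2)
    refine ⟨⟨g, hg, ?_⟩, ?_⟩
    · intro p hp
      simp only [List.mem_cons, List.not_mem_nil, or_false] at hp
      rcases hp with rfl | rfl
      · exact h1
      · exact h2
    apply Subtype.ext
    rw [hφ]
    exact h3) α p1 y (fun g hg => by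
    apply Subtype.ext
    rw [hφ]
    exact hy g (by rw [← hφ, hg]))
  have hπB : π ∈ setSystemAut B22 := by
    apply mem_aut_of_le
    intro b hb
    have h1 := block_pres (G := fx [none, some 0]) {none, some 0} (fun g => by
      rw [mem_fx]; simp) ⟨none, by simp⟩ (Function.Embedding.subtype _) (fun y => by
        by_cases h : y ≠ none ∧ y ≠ some 0
        · right; exact ⟨⟨y, h⟩, rfl⟩
        · left; simp only [Finset.mem_insert, Finset.mem_singleton]; tauto) (fun x => by
          have := x.2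
          simp only [Function.Embedding.subtype_apply, Finset.mem_insert, Finset.mem_singleton]
          tauto) φ hφ α π hπ b (by
          rw [ex2_eq]; exact hb)
    rw [ex2_eq] at h1
    exact h1
  obtain ⟨k, hk⟩ := rho_bij.2 ⟨π, hπB⟩
  refine ⟨k, ?_⟩
  ext g : 1
  apply hinj
  rw [hπ]
  have h2 : π = res k.2 := (congrArg Subtype.val hk).symm
  rw [h2]
  ext x : 1
  apply Subtype.ext
  change k.1 (g.1 (k.1⁻¹ x.1)) = k.1 (g.1 (((res k.2)⁻¹ x).1))
  have h3 : (k.1⁻¹ x.1) = ((res k.2)⁻¹ x).1 := by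
    rw [Equiv.Perm.inv_eq_iff_eq, ← res_apply k.2]
    simp
  rw [h3]

theorem card_out22 : Nat.card (Cfsg.Out (fx [none, some 0])) = 2 := by
  have h1 : Nat.card (MulAut (fx [none, some 0])) = 887040 := by
    rw [← card_pr]
    exact (Nat.card_congr (Equiv.ofBijective kap ⟨kap_inj, kap_surj⟩)).symm
  have h2 : Nat.card (Cfsg.Inn (fx [none, some 0])) = 443520 := by
    have hinj : Function.Injective (MulAut.conj : fx [none, some 0] →* MulAut (fx [none, some 0])) := by
      intro g h hgh
      have h3 : kap ⟨g.1, fx_le_st g.2⟩ = kap ⟨h.1, fx_le_st h.2⟩ := by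
        ext x : 1
        apply Subtype.ext
        exact congrArg (fun a => (a x).1) hgh
      have h4 := kap_inj h3
      rw [Subtype.mk.injEq] at h4
      exact Subtype.ext h4
    rw [← card_fx2 (show (none : GolayPt) ≠ some 0 by simp)]
    exact (Nat.card_congr (MonoidHom.ofInjective hinj).toEquiv).symm
  have h3 := Subgroup.card_eq_card_quotient_mul_card_subgroup (Cfsg.Inn (fx [none, some 0]))
  rw [h1, h2] at h3
  change 887040 = Nat.card (Cfsg.Out (fx [none, some 0])) * 443520 at h3
  omega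

end CfsgL.Mat
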