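import Cfsg.Agent.L.Mat.Real
/-!
Automorphisms of `M24`.
-/
set_option autoImplicit false
set_option maxHeartbeats 400000
namespace CfsgL.Mat
open Cfsg CfsgL.Comp CfsgL.Golay CfsgL.Orb
open scoped Pointwise

theorem card_univ24 : (Finset.univ : Finset GolayPt).card = 24 := by decide +kernel

/-- the centraliser of an element of order 11 in a point stabiliser -/
theorem cent11 {y c : Equiv.Perm GolayPt} (hy : y ∈ M24) (h11 : y ^ 11 = 1) (h1 : y ≠ 1)
    (hc : c ∈ M24) (hcy : Commute c y) {x : GolayPt} (hyx : y x = x) (hcx : c x = x) :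
    c ∈ Subgroup.zpowers y := by
  have hfy := fix11 hy h11 h1
  -- the other fixed point
  have hcomm : ∀ z, c (y z) = y (c z) := fun z => by
    have := congrArg (fun k => k z) hcy.eq
    exact this
  have hcfix : ∀ z ∈ fixset y, c z ∈ fixset y := by
    intro z hz
    rw [mem_fixset] at hz ⊢
    rw [← hcomm, hz]
  have hcf : ∀ z ∈ fixset y, c z = z := by
    intro z hz
    by_cases hzx : z = x
    · rw [hzx, hcx]
    · have h3 : c z ≠ x := fun h => hzx (c.injective (h.trans hcx.symm))
      obtain ⟨a, b, hab, he⟩ := Finset.card_eq_two.1 hfy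
      have h4 := hcfix z hz
      have h5 : x ∈ fixset y := mem_fixset.2 hyx
      rw [he] at hz h4 h5
      simp only [Finset.mem_insert, Finset.mem_singleton] at hz h4 h5
      grind
  obtain ⟨z, hz⟩ : ∃ z, z ∉ fixset y := by
    by_contra hcon
    push Not at hcon
    have : fixset y = Finset.univ := Finset.eq_univ_iff_forall.2 hcon
    rw [this, card_univ24] at hfy
    omega
  let Y := Subgroup.zpowers y
  have hYc : Nat.card Y = 11 := by
    rw [Nat.card_zpowers]
    haveI : Fact (Nat.Prime 11) := ⟨by norm_num⟩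
    exact orderOf_eq_prime h11 h1
  have hYM : Y ≤ M24 := by
    rw [Subgroup.zpowers_le]; exact hy
  have hcommY : ∀ k ∈ Y, ∀ w, c (k w) = k (c w) := by
    intro k hk w
    have h3 : Commute c k := by
      obtain ⟨n, rfl⟩ := Subgroup.mem_zpowers_iff.1 hk
      exact hcy.zpow_right n
    exact congrArg (fun k => k w) h3.eq
  have hcnf : ∀ w, w ∉ fixset y → c w ∉ fixset y := by
    intro w hw hcw
    apply hw
    rw [mem_fixset] at hcw ⊢
    apply c.injective
    rw [hcomm, hcw]
  have horb : ∀ w, w ∉ fixset y → (orb Y w).card = 11 := by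
    intro w hw
    have h3 := card_orb_dvd Y w
    rw [hYc] at h3
    rcases (Nat.dvd_prime (by norm_num)).1 h3 with h3 | h3
    · exfalso
      apply hw
      rw [mem_fixset]
      exact fixed_of_card_orb h3 y (Subgroup.mem_zpowers y)
    · exact h3
  have hkey : c (c z) ∈ orb Y z := by
    by_contra hcon
    have ha : c z ∉ orb Y z := by
      intro ha
      obtain ⟨k, hk, hkz⟩ := mem_orb.1 ha
      apply hcon
      rw [← hkz, hcommY k hk, ← hkz]
      exact orb_inv hk (orb_inv hk (self_mem_orb Y z))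
    have hb : c (c z) ∉ orb Y (c z) := by
      intro hb
      obtain ⟨k, hk, hkz⟩ := mem_orb.1 hb
      apply ha
      rw [mem_orb]
      refine ⟨k, hk, ?_⟩
      apply c.injective
      rw [hcommY k hk, hkz]
    have hdis1 : Disjoint (orb Y z) (orb Y (c z)) := by
      rw [Finset.disjoint_left]
      intro w hw hw'
      obtain ⟨k, hk, hkz⟩ := mem_orb.1 hw
      obtain ⟨l, hl, hlz⟩ := mem_orb.1 hw'
      apply ha
      rw [mem_orb]
      refine ⟨l⁻¹ * k, Y.mul_mem (Y.inv_mem hl) hk, ?_⟩
      rw [Equiv.Perm.mul_apply, hkz, ← hlz]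
      simp
    have hdis2 : Disjoint (orb Y z ∪ orb Y (c z)) (fixset y) := by
      rw [Finset.disjoint_left]
      intro w hw hwf
      have hfix : ∀ v, v ∉ fixset y → w ∈ orb Y v → False := by
        intro v hv hwv
        obtain ⟨k, hk, hkz⟩ := mem_orb.1 hwv
        apply hv
        have h3 : k⁻¹ w = w := by
          obtain ⟨n, hn⟩ := Subgroup.mem_zpowers_iff.1 (Y.inv_mem hk)
          rw [← hn]
          exact Equiv.Perm.zpow_apply_eq_self_of_apply_eq_self (mem_fixset.1 hwf) n
        have h4 : v = w := by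
          rw [← h3, ← hkz]; simp
        rw [h4]; exact hwf
      rcases Finset.mem_union.1 hw with h3 | h3
      · exact hfix z hz h3
      · exact hfix (c z) (hcnf z hz) h3
    have hcard : ((orb Y z ∪ orb Y (c z)) ∪ fixset y).card = 24 := by
      rw [Finset.card_union_of_disjoint hdis2, Finset.card_union_of_disjoint hdis1, horb z hz,
        horb _ (hcnf z hz), hfy]
    have huniv : (orb Y z ∪ orb Y (c z)) ∪ fixset y = Finset.univ := by
      apply Finset.eq_univ_of_card
      rw [hcard, ← Finset.card_univ, card_univ24]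
    have h3 : c (c z) ∈ (orb Y z ∪ orb Y (c z)) ∪ fixset y := by
      rw [huniv]; exact Finset.mem_univ _
    rw [Finset.mem_union, Finset.mem_union] at h3
    rcases h3 with (h3 | h3) | h3
    · exact hcon h3
    · exact hb h3
    · exact hcnf _ (hcnf z hz) h3
  obtain ⟨k, hk, hkz⟩ := mem_orb.1 hkey
  have hcc : c * c = k := by
    have h3 : k⁻¹ * (c * c) = 1 := by
      by_contra hne
      have h4 : k⁻¹ * (c * c) ∈ M24 :=
        M24.mul_mem (M24.inv_mem (hYM hk)) (M24.mul_mem hc hc)
      have h5 := fix_le8 h4 hne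
      have h6 : orb Y z ⊆ fixset (k⁻¹ * (c * c)) := by
        intro w hw
        obtain ⟨l, hl, rfl⟩ := mem_orb.1 hw
        rw [mem_fixset]
        change k⁻¹ (c (c (l z))) = l z
        rw [hcommY l hl, hcommY l hl, ← hkz, Equiv.Perm.inv_eq_iff_eq]
        haveI : CommGroup Y := IsCyclic.commGroup
        obtain ⟨a, rfl⟩ := Subgroup.mem_zpowers_iff.1 hl
        obtain ⟨b, rfl⟩ := Subgroup.mem_zpowers_iff.1 hk
        rw [← Equiv.Perm.mul_apply, ← Equiv.Perm.mul_apply, ← zpow_add, ← zpow_add, add_comm]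
      have h7 := Finset.card_le_card h6
      rw [horb z hz] at h7
      omega
    exact (inv_mul_eq_one.1 h3).symm
  have hk11 : k ^ 11 = 1 := by
    obtain ⟨n, rfl⟩ := Subgroup.mem_zpowers_iff.1 hk
    rw [← zpow_natCast, ← zpow_mul, mul_comm, zpow_mul, zpow_natCast, h11, one_zpow]
  have ht2 : (c ^ 11) ^ 2 = 1 := by
    rw [← pow_mul, mul_comm, pow_mul, pow_two, hcc, hk11]
  have ht : c ^ 11 = 1 := by
    by_contra hne
    haveI : Fact (Nat.Prime 2) := ⟨Nat.prime_two⟩
    have ho : orderOf (c ^ 11) = 2 := orderOf_eq_prime ht2 hne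
    have hcx11 : (c ^ 11) x = x := Equiv.Perm.pow_apply_eq_self_of_apply_eq_self hcx 11
    rcases inv_cases (M24.pow_mem hc 11) ho with ⟨h3, -⟩ | ⟨h3, -⟩
    · have h4 := card_octad h3
      haveI : Fact (Nat.Prime 11) := ⟨by norm_num⟩
      have h5 := card_modEq_fix y h11 (fixset (c ^ 11)) (by
        intro w hw
        rw [mem_fixset] at hw ⊢
        have h6 : Commute (c ^ 11) y := hcy.pow_left 11
        have h7 : (c ^ 11) (y w) = y ((c ^ 11) w) := congrArg (fun k => k w) h6.eq
        rw [h7, hw])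
      have h6 : ((fixset (c ^ 11)).filter (fun w => y w = w)).card ≤ 2 := by
        rw [← hfy]
        apply Finset.card_le_card
        intro w hw
        exact mem_fixset.2 (Finset.mem_filter.1 hw).2
      unfold Nat.ModEq at h5
      omega
    · have : x ∈ fixset (c ^ 11) := mem_fixset.2 hcx11
      rw [h3] at this
      simp at this
  have h12 : c = (c * c) ^ 6 := by
    rw [← pow_two, ← pow_mul]
    change c = c ^ 12
    rw [pow_succ, ht, one_mul]
  rw [h12, hcc]
  exact Y.pow_mem hk 6

/-- there is no subgroup of order 425040 in a point stabiliser -/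
theorem no_425040 (K : Subgroup (Equiv.Perm GolayPt)) (hK : K ≤ M24) (x : GolayPt)
    (hx : ∀ g ∈ K, g x = x) (hc : Nat.card K = 425040) : False := by
  haveI : Fact (Nat.Prime 11) := ⟨by norm_num⟩
  let P : Sylow 11 K := default
  have hP : Nat.card P = 11 := by
    rw [Sylow.card_eq_multiplicity P, hc]
    have : (425040 : ℕ).factorization 11 = 1 := by
      rw [show 425040 = 11 ^ 1 * 38640 by norm_num, Nat.factorization_mul (by norm_num) (by norm_num)]
      simp [Nat.Prime.factorization_pow (show Nat.Prime 11 by norm_num),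
        Nat.factorization_eq_zero_of_not_dvd, (show Nat.Prime 11 by norm_num).factorization_self]
    rw [this]; norm_num
  obtain ⟨e, n, he, hn, hcard⟩ := sylow_count P hP (by
    haveI : IsCyclic P := isCyclic_of_prime_card hP
    obtain ⟨y, hy⟩ := IsCyclic.exists_generator (α := P)
    have hy1 : y.1 ≠ 1 := by
      intro h
      have h0 : y = 1 := Subtype.ext h
      have h3 : Nat.card P = 1 := by
        rw [Nat.card_eq_one_iff_unique]
        refine ⟨⟨fun a b => ?_⟩, ⟨1⟩⟩
        have ha := hy a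
        have hb := hy b
        rw [h0, Subgroup.zpowers_one_eq_bot, Subgroup.mem_bot] at ha hb
        rw [ha, hb]
      omega
    have hy11 : y ^ 11 = 1 := by
      have h3 := pow_card_eq_one' (x := y)
      rwa [hP] at h3
    intro c hc
    rw [Subgroup.mem_centralizer_iff] at hc
    have h3 := hc y.1 y.2
    have h4 : c.1 ∈ Subgroup.zpowers y.1.1 := by
      apply cent11 (hK y.1.2) (by
        have := congrArg (fun w => w.1.1) hy11
        exact this) (fun h => hy1 (Subtype.ext h)) (hK c.2) _ (hx _ y.1.2) (hx _ c.2)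
      exact (congrArg Subtype.val h3).symm
    obtain ⟨m, hm⟩ := Subgroup.mem_zpowers_iff.1 h4
    have h5 : c = y.1 ^ m := by
      apply Subtype.ext
      rw [← hm]; rfl
    rw [h5]
    exact (P : Subgroup K).zpow_mem y.2 m)
  have he' : e ∈ Nat.divisors 10 := Nat.mem_divisors.2 ⟨he, by norm_num⟩
  have : e = 1 ∨ e = 2 ∨ e = 5 ∨ e = 10 := by
    have h3 : Nat.divisors 10 = {1, 2, 5, 10} := by decide
    rw [h3] at he'
    simpa using he'
  rcases this with rfl | rfl | rfl | rfl <;> omega


/-- the image of a point stabiliser under an automorphism fixes a point -/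
theorem M24_fixes (α : MulAut M24) : ∃ y : GolayPt, ∀ g : M24, g.1 none = none → (α g).1 y = y := by
  let S : Subgroup M24 := MulAction.stabilizer M24 (none : GolayPt)
  let L : Subgroup (Equiv.Perm GolayPt) := (S.map α.toMonoidHom).map M24.subtype
  have hL : L ≤ M24 := by
    rintro _ ⟨g, -, rfl⟩
    exact g.2
  have hLc : Nat.card L = 10200960 := by
    rw [← card_stab1 (none : GolayPt)]
    have h1 : Nat.card (S.map α.toMonoidHom) = Nat.card S :=
      (Nat.card_congr (S.equivMapOfInjective _ α.injective).toEquiv).symm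
    rw [← h1]
    exact (Nat.card_congr ((S.map α.toMonoidHom).equivMapOfInjective _ M24.subtype_injective).toEquiv).symm
  haveI : Fact (Nat.Prime 23) := ⟨by norm_num⟩
  obtain ⟨z, hz, hz23, hz1⟩ := exists_elt L 23 (by rw [hLc]; norm_num)
  obtain ⟨x1, hx1⟩ := Finset.card_eq_one.1 (fix23 (hL hz) hz23 hz1)
  have hmod := orb_modEq (x := x1) hz hz23
  have h1 : ((orb L x1).filter (fun y => z y = y)).card = 1 := by
    rw [Finset.card_eq_one]
    refine ⟨x1, ?_⟩
    ext w
    rw [Finset.mem_filter, ← mem_fixset, hx1, Finset.mem_singleton]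
    exact ⟨fun h => h.2, fun h => ⟨h ▸ self_mem_orb L x1, h⟩⟩
  rw [h1] at hmod
  have h2 : (orb L x1).card ≤ 24 := by
    rw [← card_univ24]
    exact Finset.card_le_card (Finset.subset_univ _)
  have h3 : (orb L x1).card = 1 ∨ (orb L x1).card = 24 := by
    unfold Nat.ModEq at hmod
    omega
  rcases h3 with h3 | h3
  · refine ⟨x1, fun g hg => ?_⟩
    apply fixed_of_card_orb h3
    exact ⟨α g, ⟨g, hg, rfl⟩, rfl⟩
  · exfalso
    have h4 := card_orb L x1
    rw [h3, hLc] at h4
    refine no_425040 (L ⊓ MulAction.stabilizer (Equiv.Perm GolayPt) x1) (inf_le_left.trans hL) x1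
      (fun g hg => hg.2) (by omega)

/-- fixed points of involutions detect the octads -/
theorem octad_fix {o : Finset GolayPt} (ho : o ∈ octads) :
    ∃ t ∈ M24, t ^ 2 = 1 ∧ t ≠ 1 ∧ fixset t = o := by
  obtain ⟨h1, h2⟩ := ptst_octad ho
  have h3 : 1 < Nat.card (ptst o) := by rw [h1]; norm_num
  haveI : Finite (ptst o) := inferInstance
  rw [Finite.one_lt_card_iff_nontrivial] at h3
  obtain ⟨t, ht⟩ := exists_ne (1 : ptst o)
  have ht1 : t.1 ≠ 1 := fun h => ht (Subtype.ext h)
  refine ⟨t.1, (mem_ptst.1 t.2).1, ?_, ht1, ?_⟩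
  · rw [pow_two]; exact h2 _ t.2
  · have h4 : o ⊆ fixset t.1 := fun p hp => mem_fixset.2 ((mem_ptst.1 t.2).2 p hp)
    symm
    apply Finset.eq_of_subset_of_card_le h4
    rw [card_octad ho]
    exact fix_le8 (mem_ptst.1 t.2).1 ht1

theorem octad_of_fix {t : Equiv.Perm GolayPt} (ht : t ∈ M24) (h2 : t ^ 2 = 1) (h1 : t ≠ 1)
    (hf : (fixset t).Nonempty) : fixset t ∈ octads := by
  haveI : Fact (Nat.Prime 2) := ⟨Nat.prime_two⟩
  rcases inv_cases ht (orderOf_eq_prime h2 h1) with ⟨h3, -⟩ | ⟨h3, -⟩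
  · exact h3
  · rw [h3] at hf; simp at hf

theorem mem_aut_of_le {Ω : Type*} [DecidableEq Ω] [Finite Ω] {B : Set (Finset Ω)}
    {g : Equiv.Perm Ω} (h : ∀ b ∈ B, g • b ∈ B) : g ∈ setSystemAut B := by
  change g ∈ MulAction.stabilizer (Equiv.Perm Ω) B
  rw [MulAction.mem_stabilizer_iff]
  apply Set.eq_of_subset_of_ncard_le
  · rintro _ ⟨s, hs, rfl⟩
    exact h s hs
  · exact le_of_eq (Set.ncard_smul_set _ _).symm
  · exact Set.toFinite _

/-- the normaliser of `M24` -/
theorem mem_M24_of_normalizes {π : Equiv.Perm GolayPt} (h : ∀ g ∈ M24, π * g * π⁻¹ ∈ M24) :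
    π ∈ M24 := by
  rw [M24_eq_octads]
  apply mem_aut_of_le
  intro o ho
  obtain ⟨t, ht, ht2, ht1, rfl⟩ := octad_fix ho
  rw [← fixset_conj]
  apply octad_of_fix (h t ht)
  · rw [conj_pow, ht2]; simp
  · intro h3
    apply ht1
    have h4 : π * t = π := mul_inv_eq_one.1 h3
    exact mul_eq_left.1 h4
  · rw [fixset_conj]
    have := card_octad ho
    rw [← Finset.card_pos, card_smul_finset']
    omega

theorem M24_trans (x y : GolayPt) : ∃ g ∈ M24, g x = y := by
  by_cases h : ∃ f : Fin 5 ↪ GolayPt, f 0 = x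
  · obtain ⟨f, hf⟩ := h
    by_cases h' : ∃ f : Fin 5 ↪ GolayPt, f 0 = y
    · obtain ⟨f', hf'⟩ := h'
      obtain ⟨g, hg, hgf⟩ := five_trans_emb f f'
      exact ⟨g, hg, by rw [← hf, ← hf']; exact hgf 0⟩
    · exfalso
      apply h'
      exact ⟨(f.trans (Equiv.swap x y).toEmbedding), by simp [hf]⟩
  · exfalso
    apply h
    let f : Fin 5 ↪ GolayPt := ⟨fun i => ![bp 3, bp 2, bp 1, bp 0, bp 23] i, by decide +kernel⟩
    exact ⟨f.trans (Equiv.swap (f 0) x).toEmbedding, by simp⟩

theorem M24_inner (α : MulAut M24) : ∃ g, α = MulAut.conj g := by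
  obtain ⟨y, hy⟩ := M24_fixes α
  obtain ⟨π, hπ⟩ := exists_perm M24.subtype (fun x y => by
    obtain ⟨g, hg, h⟩ := M24_trans x y
    exact ⟨⟨g, hg⟩, h⟩) α none y hy
  have h1 : π ∈ M24 := by
    apply mem_M24_of_normalizes
    intro g hg
    have := hπ ⟨g, hg⟩
    change (α ⟨g, hg⟩).1 = π * g * π⁻¹ at this
    rw [← this]
    exact (α ⟨g, hg⟩).2
  refine ⟨⟨π, h1⟩, ?_⟩
  ext g : 1
  apply Subtype.ext
  exact hπ g

end CfsgL.Mat
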