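import Cfsg.Agent.L.Golay.M12
import Cfsg.Agent.L.Orb.Cls
/-!
Fixed points of elements of `M24`.
-/
set_option autoImplicit false
set_option maxHeartbeats 400000
namespace CfsgL.Mat
open Cfsg CfsgL.Comp CfsgL.Golay CfsgL.Orb
open scoped Pointwise

/-- number of fixed points below `n` -/
def cntFix (P Q : ℕ) : ℕ → ℕ
  | 0 => 0
  | n + 1 => cond (Nat.beq (papp P (papp Q n)) n) (Nat.succ (cntFix P Q n)) (cntFix P Q n)

theorem cntFix_eq (P Q n : ℕ) :
    cntFix P Q n = ((Finset.range n).filter (fun i => papp P (papp Q i) = i)).card := by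
  induction n with
  | zero => rfl
  | succ n ih =>
    rw [cntFix, ih, Finset.range_add_one, Finset.filter_insert]
    by_cases h : papp P (papp Q n) = n
    · have h' : Nat.beq (papp P (papp Q n)) n = true := natBeq_iff.2 h
      rw [if_pos h, h', Finset.card_insert_of_notMem (by simp)]
      rfl
    · have h' : Nat.beq (papp P (papp Q n)) n = false := by
        rw [← Bool.not_eq_true, natBeq_iff]; exact h
      rw [if_neg h, h']
      rfl

def fix8OK : Bool := tr5.all (fun u => tr6.all (fun v =>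
  Bool.or (allR (fun i => Nat.beq (papp u.1 (papp v.1 i)) i) 24)
    (Nat.ble (cntFix u.1 v.1 24) 8)))

theorem fix8OK_true : fix8OK = true := by decide +kernel

theorem fix8_base {g : Equiv.Perm GolayPt} (hg : g ∈ fx [bp 3, bp 2, bp 1, bp 0, bp 23])
    (h1 : g ≠ 1) : (fixset g).card ≤ 8 := by
  obtain ⟨u, hu, v, hv, h, h', rfl⟩ := fx5_eq hg
  have hc := fix8OK_true
  unfold fix8OK at hc
  simp only [List.all_eq_true, Bool.or_eq_true] at hc
  rcases hc u hu v hv with hc | hc
  · exfalso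
    apply h1
    rw [allR_iff] at hc
    ext p : 1
    rw [← toIdx_inj, Equiv.Perm.mul_apply, toIdx_toPerm, toIdx_toPerm]
    exact natBeq_iff.1 (hc _ (toIdx_lt p))
  · have hc1 : cntFix u.1 v.1 24 ≤ 8 := Nat.le_of_ble_eq_true hc
    rw [cntFix_eq] at hc1
    refine le_trans ?_ hc1
    apply Finset.card_le_card_of_injOn toIdx
    · intro p hp
      rw [Finset.mem_coe, mem_fixset] at hp
      rw [Finset.mem_coe, Finset.mem_filter, Finset.mem_range]
      refine ⟨toIdx_lt p, ?_⟩
      conv_rhs => rw [← hp]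
      rw [Equiv.Perm.mul_apply, toIdx_toPerm, toIdx_toPerm]
    · intro p _ q _ e
      exact toIdx_inj.1 e

theorem fix_le8 {g : Equiv.Perm GolayPt} (hg : g ∈ M24) (h1 : g ≠ 1) : (fixset g).card ≤ 8 := by
  by_contra hc
  push Not at hc
  obtain ⟨t, ht, hc5⟩ := Finset.exists_subset_card_eq (show 5 ≤ (fixset g).card by omega)
  let e := t.equivFinOfCardEq hc5
  let f : Fin 5 ↪ GolayPt := ⟨fun i => (e.symm i).1, fun i j h => e.symm.injective (Subtype.ext h)⟩
  have hf : ∀ i, g (f i) = f i := fun i => mem_fixset.1 (ht (e.symm i).2)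
  let y : Fin 5 ↪ GolayPt := ⟨fun i => ![bp 3, bp 2, bp 1, bp 0, bp 23] i, by decide +kernel⟩
  obtain ⟨k, hk, hk'⟩ := five_trans_emb f y
  have h2 : k * g * k⁻¹ ∈ fx [bp 3, bp 2, bp 1, bp 0, bp 23] := by
    refine ⟨M24.mul_mem (M24.mul_mem hk hg) (M24.inv_mem hk), ?_⟩
    have h0 : ∀ i, (k * g * k⁻¹) (y i) = y i := by
      intro i
      rw [← hk' i]
      simp [hf i]
    intro p hp
    simp only [List.mem_cons, List.not_mem_nil, or_false] at hp
    rcases hp with rfl | rfl | rfl | rfl | rfl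
    · exact h0 0
    · exact h0 1
    · exact h0 2
    · exact h0 3
    · exact h0 4
  have h3 : k * g * k⁻¹ ≠ 1 := by
    intro h
    apply h1
    have h4 : k * g = k := mul_inv_eq_one.1 h
    exact mul_eq_left.1 h4
  have h4 := fix8_base h2 h3
  rw [fixset_conj, card_smul_finset'] at h4
  omega

/-- mod `p` counting on invariant subsets -/
theorem card_modEq_fix {Ω : Type*} [DecidableEq Ω] {p : ℕ} [Fact p.Prime]
    (g : Equiv.Perm Ω) (hg : g ^ p = 1) (S : Finset Ω) (hS : ∀ x ∈ S, g x ∈ S) :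
    S.card ≡ (S.filter (fun x => g x = x)).card [MOD p] := by
  let f : Function.End S := fun x => ⟨g x.1, hS _ x.2⟩
  have hfn : ∀ (n : ℕ) (x : S), ((f ^ n) x).1 = (g ^ n) x.1 := by
    intro n
    induction n with
    | zero => intro x; rfl
    | succ n ih =>
      intro x
      rw [pow_succ', pow_succ', Equiv.Perm.mul_apply, ← ih x]
      rfl
  have hf : f ^ p ^ 1 = 1 := by
    funext x
    apply Subtype.ext
    rw [hfn, pow_one, hg]
    rfl
  have h1 := Equiv.Perm.card_fixedPoints_modEq (p := p) (n := 1) hf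
  rw [Fintype.card_coe] at h1
  refine h1.trans ?_
  have h2 : Fintype.card (Function.fixedPoints f) = (S.filter (fun x => g x = x)).card := by
    rw [← Fintype.card_coe]
    apply Fintype.card_congr
    exact
      { toFun := fun x => ⟨x.1.1, by
          rw [Finset.mem_filter]
          exact ⟨x.1.2, congrArg Subtype.val x.2⟩⟩
        invFun := fun x => ⟨⟨x.1, (Finset.mem_filter.1 x.2).1⟩,
          Subtype.ext (Finset.mem_filter.1 x.2).2⟩
        left_inv := fun x => rfl
        right_inv := fun x => rfl }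
  rw [h2]

theorem fixset_mod {p : ℕ} [Fact p.Prime] {g : Equiv.Perm GolayPt} (hg : g ^ p = 1) :
    24 ≡ (fixset g).card [MOD p] := by
  have := card_modEq_fix g hg Finset.univ (fun _ _ => Finset.mem_univ _)
  rwa [show (Finset.univ : Finset GolayPt).card = 24 by decide +kernel] at this

theorem fix23 {g : Equiv.Perm GolayPt} (hg : g ∈ M24) (h : g ^ 23 = 1) (h1 : g ≠ 1) :
    (fixset g).card = 1 := by
  haveI : Fact (Nat.Prime 23) := ⟨by norm_num⟩
  have h2 := fixset_mod h
  have h3 := fix_le8 hg h1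
  unfold Nat.ModEq at h2
  omega

theorem fix11 {g : Equiv.Perm GolayPt} (hg : g ∈ M24) (h : g ^ 11 = 1) (h1 : g ≠ 1) :
    (fixset g).card = 2 := by
  haveI : Fact (Nat.Prime 11) := ⟨by norm_num⟩
  have h2 := fixset_mod h
  have h3 := fix_le8 hg h1
  unfold Nat.ModEq at h2
  omega

theorem fix7 {g : Equiv.Perm GolayPt} (hg : g ∈ M24) (h : g ^ 7 = 1) (h1 : g ≠ 1) :
    (fixset g).card = 3 := by
  haveI : Fact (Nat.Prime 7) := ⟨by norm_num⟩
  have h2 := fixset_mod h
  have h3 := fix_le8 hg h1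
  unfold Nat.ModEq at h2
  omega

theorem fix5 {g : Equiv.Perm GolayPt} (hg : g ∈ M24) (h : g ^ 5 = 1) (h1 : g ≠ 1) :
    (fixset g).card = 4 := by
  haveI : Fact (Nat.Prime 5) := ⟨by norm_num⟩
  have h2 := fixset_mod h
  have h3 := fix_le8 hg h1
  unfold Nat.ModEq at h2
  omega

end CfsgL.Mat
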