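import Cfsg.Agent.L.Mat.A11
/-!
Elements of order 8 in `M12`.
-/
set_option autoImplicit false
set_option maxHeartbeats 400000
namespace CfsgL.Mat
open Cfsg CfsgL.Comp CfsgL.Golay CfsgL.Orb
open scoped Pointwise

/-- the seven candidates -/
def cand : List (ℕ × ℕ) := [
  (0xb2e913c260555322bdacba1c620c41, 0x3ddd58b29251528b3da69916310410),
  (0x9bcea8b2d0a380db94c95caa820c41, 0x5c4afb9a70b39923d104aa5431040d),
  (0x729f759aa82ce503c40da32c920c41, 0xa16277354cadd069d8905c9e310409),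
  (0xac565bb5c67d900a1d325426c20c41, 0x9baeb2a2c67c644a9d2d542831040c),
  (0x9dd47a02c98b9887ae5029aad20c41, 0xb44b3ba5e85b88d5560ca18e310412),
  (0x71eef2caad5ccc955188882d020c41, 0xa962a748e4a5e097ad88b366310406),
  (0xb16345266c3d6065dd007b5d220c41, 0x55dd4892ad394d05ce497b2c310408)]

/-- eight-fold iteration -/
def it8 (P i : ℕ) : ℕ := papp P (papp P (papp P (papp P (papp P (papp P (papp P (papp P i)))))))

def candGood (q : ℕ) (x : ℕ × ℕ) : Bool :=
  Bool.and (Bool.and (Bool.and (permOK x.1 x.2) (inM24 x.1))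
    (Bool.and (Nat.beq (img x.1 0x5335f) 0x5335f) (Nat.beq (papp x.1 0) 1)))
  (Bool.and (Bool.and (Bool.and (Nat.beq (papp x.1 1) 2) (Nat.beq (papp x.1 2) 3))
    (Bool.and (Nat.beq (papp x.1 3) 4) (Nat.beq (papp x.1 4) q)))
  (Bool.or (Bool.not (allR (fun i => Bool.not (Nat.beq (papp x.1 i) i)) 24))
    (Bool.not (allR (fun i => Nat.beq (it8 x.1 i) i) 24))))

def candCov : Bool := allR (fun q => Bool.or (Bool.not (inMask 0x5335f [0, 1, 2, 3, 4] q))
  (cand.any (candGood q))) 24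

theorem candCov_true : candCov = true := by decide +kernel

theorem it8_eq {P Q : ℕ} (h : permOK P Q = true) (p : GolayPt) :
    toIdx ((toPerm P Q h ^ 8) p) = it8 P (toIdx p) := by
  have e : (toPerm P Q h ^ 8) p = toPerm P Q h (toPerm P Q h (toPerm P Q h (toPerm P Q h
      (toPerm P Q h (toPerm P Q h (toPerm P Q h (toPerm P Q h p))))))) := rfl
  rw [e]
  simp only [toIdx_toPerm, it8]

theorem cand_exists (q : GolayPt) (hq : q ∈ D0) (h0 : q ≠ bp 0) (h1 : q ≠ bp 1) (h2 : q ≠ bp 2)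
    (h3 : q ≠ bp 3) (h4 : q ≠ bp 4) : ∃ g ∈ st D0, g (bp 0) = bp 1 ∧ g (bp 1) = bp 2 ∧
      g (bp 2) = bp 3 ∧ g (bp 3) = bp 4 ∧ g (bp 4) = q ∧ ((∃ x, g x = x) ∨ g ^ 8 ≠ 1) := by
  have hc := candCov_true
  unfold candCov at hc
  rw [allR_iff] at hc
  have h5 := hc (toIdx q) (toIdx_lt q)
  have hm : inMask 0x5335f [0, 1, 2, 3, 4] (toIdx q) = true := by
    have key : ∀ q : GolayPt, q ∈ D0 → q ≠ bp 0 → q ≠ bp 1 → q ≠ bp 2 → q ≠ bp 3 → q ≠ bp 4 →
      inMask 0x5335f [0, 1, 2, 3, 4] (toIdx q) = true := by decide +kernel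
    exact key q hq h0 h1 h2 h3 h4
  rw [hm] at h5
  simp only [Bool.not_true, Bool.false_or, List.any_eq_true] at h5
  obtain ⟨x, -, hx⟩ := h5
  unfold candGood at hx
  simp only [Bool.and_eq_true, natBeq_iff, Bool.or_eq_true, Bool.not_eq_true'] at hx
  obtain ⟨⟨⟨a1, a2⟩, a3, a4⟩, ⟨⟨a5, a6⟩, a7, a8⟩, a9⟩ := hx
  have hb : ∀ i j, i < 24 → papp x.1 i = j → toPerm x.1 x.2 a1 (bp i) = bp j := by
    intro i j hi hij
    rw [toPerm_apply]
    unfold bp
    rw [toIdx_ofIdx hi, hij]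
  refine ⟨toPerm x.1 x.2 a1, mem_st.2 ⟨toPerm_mem_M24 a1 a2, ?_⟩, hb 0 1 (by norm_num) a4,
    hb 1 2 (by norm_num) a5, hb 2 3 (by norm_num) a6, hb 3 4 (by norm_num) a7, ?_, ?_⟩
  · unfold D0
    rw [← mset_img a1, a3]
  · rw [toPerm_apply]
    unfold bp
    rw [toIdx_ofIdx (by norm_num), a8, ofIdx_toIdx]
  · rcases a9 with a9 | a9
    · left
      by_contra hcon
      push Not at hcon
      rw [← Bool.not_eq_true, allR_iff] at a9
      apply a9
      intro i hi
      rw [Bool.not_eq_true', ← Bool.not_eq_true, natBeq_iff]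
      intro h6
      exact hcon (bp i) (hb i i hi h6)
    · right
      intro h6
      rw [← Bool.not_eq_true, allR_iff] at a9
      apply a9
      intro i hi
      rw [natBeq_iff]
      have h7 := it8_eq a1 (ofIdx i)
      rw [h6, toIdx_ofIdx hi] at h7
      rw [← h7]
      exact toIdx_ofIdx hi

/-- an element of order 8 has a fixed point -/
theorem ord8_fixed {g : Equiv.Perm GolayPt} (hg : g ∈ st D0) (h8 : g ^ 8 = 1) (h4 : g ^ 4 ≠ 1) :
    ∃ x, g x = x := by
  obtain ⟨x, hx, hx4⟩ : ∃ x ∈ D0, (g ^ 4) x ≠ x := by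
    by_contra hcon
    push Not at hcon
    apply h4
    apply M12_base_trivial ((st D0).pow_mem hg 4)
    · exact hcon _ (D0_five _ (by simp))
    · exact hcon _ (D0_five _ (by simp))
    · exact hcon _ (D0_five _ (by simp))
    · exact hcon _ (D0_five _ (by simp))
    · exact hcon _ (D0_five _ (by simp))
  have hk : ∀ k, 1 ≤ k → k ≤ 5 → (g ^ k) x ≠ x := by
    intro k hk1 hk5 hkx
    have hiter : ∀ n, (g ^ (k * n)) x = x := by
      intro n
      rw [pow_mul]
      exact Equiv.Perm.pow_apply_eq_self_of_apply_eq_self hkx n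
    apply hx4
    obtain rfl | rfl | rfl | rfl | rfl : k = 1 ∨ k = 2 ∨ k = 3 ∨ k = 4 ∨ k = 5 := by omega
    · exact hiter 4
    · exact hiter 2
    · have := hiter 4
      rw [show 3 * 4 = 8 + 4 by norm_num, pow_add, h8, one_mul] at this
      exact this
    · exact hkx
    · have := hiter 4
      rw [show 5 * 4 = 8 + (8 + 4) by norm_num, pow_add, pow_add, h8, one_mul, one_mul] at this
      exact this
  have hinj : ∀ i j, i < j → j ≤ 5 → (g ^ i) x ≠ (g ^ j) x := by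
    intro i j hij hj h
    apply hk (j - i) (by omega) (by omega)
    have h5 : (g ^ j) x = (g ^ i) ((g ^ (j - i)) x) := by
      rw [← Equiv.Perm.mul_apply, ← pow_add, Nat.add_sub_cancel' hij.le]
    rw [h5] at h
    exact ((g ^ i).injective h).symm
  have hmem : ∀ i, (g ^ i) x ∈ D0 := fun i => (smul_mem_of_st ((st D0).pow_mem hg i)).2 hx
  let f : Fin 5 ↪ GolayPt := ⟨fun i => (g ^ i.1) x, by
    intro i j h
    by_contra hne
    rcases lt_or_gt_of_ne (fun h' : i.1 = j.1 => hne (Fin.ext h')) with h1 | h1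
    · exact hinj i.1 j.1 h1 (by omega) h
    · exact hinj j.1 i.1 h1 (by omega) h.symm⟩
  let y : Fin 5 ↪ GolayPt := ⟨fun i => ![bp 0, bp 1, bp 2, bp 3, bp 4] i, by decide +kernel⟩
  have hy : ∀ i, y i ∈ D0 := by
    intro i
    apply D0_five
    fin_cases i <;> simp [y]
  obtain ⟨k, hk', hkf⟩ := dod_five_trans D0_mem f y (fun i => hmem i.1) hy
  have k0 : k x = bp 0 := hkf 0
  have k1 : k (g x) = bp 1 := hkf 1
  have k2 : k ((g ^ 2) x) = bp 2 := hkf 2
  have k3 : k ((g ^ 3) x) = bp 3 := hkf 3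
  have k4 : k ((g ^ 4) x) = bp 4 := hkf 4
  let q := k ((g ^ 5) x)
  have hq : q ∈ D0 := (smul_mem_of_st hk').2 (hmem 5)
  have hqn : ∀ i, i < 5 → q ≠ k ((g ^ i) x) := by
    intro i hi h
    exact hinj i 5 hi le_rfl (k.injective h).symm
  obtain ⟨c, hc, c0, c1, c2, c3, c4, hcf⟩ := cand_exists q hq
    (by rw [← k0]; exact hqn 0 (by norm_num)) (by rw [← k1]; exact hqn 1 (by norm_num))
    (by rw [← k2]; exact hqn 2 (by norm_num)) (by rw [← k3]; exact hqn 3 (by norm_num))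
    (by rw [← k4]; exact hqn 4 (by norm_num))
  have hge : k * g * k⁻¹ = c := by
    have h5 : c⁻¹ * (k * g * k⁻¹) = 1 := by
      have step : ∀ (a b : GolayPt) (z : GolayPt), k z = a → k (g z) = b → c a = b →
          (c⁻¹ * (k * g * k⁻¹)) a = a := by
        intro a b z h1 h2 h3
        have h6 : k⁻¹ a = z := by rw [← h1]; simp
        change c⁻¹ (k (g (k⁻¹ a))) = a
        rw [h6, h2, ← h3]; simp
      apply M12_base_trivial ((st D0).mul_mem ((st D0).inv_mem hc)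
        ((st D0).mul_mem ((st D0).mul_mem hk' hg) ((st D0).inv_mem hk')))
      · exact step _ _ x k0 k1 c0
      · exact step _ _ (g x) k1 k2 c1
      · exact step _ _ ((g ^ 2) x) k2 k3 c2
      · exact step _ _ ((g ^ 3) x) k3 k4 c3
      · exact step _ _ ((g ^ 4) x) k4 rfl c4
    exact (inv_mul_eq_one.1 h5).symm
  rcases hcf with ⟨z, hz⟩ | h5
  · refine ⟨k⁻¹ z, ?_⟩
    rw [← hge] at hz
    change k (g (k⁻¹ z)) = z at hz
    rw [Equiv.Perm.eq_inv_iff_eq]
    exact hz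
  · exfalso
    apply h5
    rw [← hge, conj_pow, h8]; simp

/-- an element of order 8 in the point stabiliser -/
def e8 : ℕ × ℕ := (0x2d0eab11c95dd90abe469b62810c20, 0x74d763a4ac544cd7d204aa2f210c20)

theorem exists_e8 : ∃ g ∈ st1 D0 (some 0), g ^ 8 = 1 ∧ g ^ 4 ≠ 1 := by
  have h : permOK e8.1 e8.2 = true := by decide +kernel
  have h1 : inM24 e8.1 = true := by decide +kernel
  have h2 : img e8.1 0x5335f = 0x5335f := by decide +kernel
  have h3 : papp e8.1 0 = 0 := by decide +kernel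
  have h4 : allR (fun i => Nat.beq (it8 e8.1 i) i) 24 = true := by decide +kernel
  have h5 : papp e8.1 (papp e8.1 (papp e8.1 (papp e8.1 4))) ≠ 4 := by decide +kernel
  refine ⟨toPerm e8.1 e8.2 h, ?_, ?_, ?_⟩
  · rw [mem_st1, mem_st]
    refine ⟨⟨toPerm_mem_M24 h h1, ?_⟩, ?_⟩
    · unfold D0
      rw [← mset_img h, h2]
    · have e : (some 0 : GolayPt) = ofIdx 0 := rfl
      rw [e, toPerm_apply, toIdx_ofIdx (by norm_num), h3]
  · ext p : 1
    rw [← toIdx_inj, it8_eq]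
    rw [allR_iff] at h4
    exact natBeq_iff.1 (h4 _ (toIdx_lt p))
  · intro h6
    apply h5
    have h7 : toIdx ((toPerm e8.1 e8.2 h ^ 4) (ofIdx 4)) = papp e8.1 (papp e8.1 (papp e8.1 (papp e8.1 4))) := by
      have e : (toPerm e8.1 e8.2 h ^ 4) (ofIdx 4) = toPerm e8.1 e8.2 h (toPerm e8.1 e8.2 h
        (toPerm e8.1 e8.2 h (toPerm e8.1 e8.2 h (ofIdx 4)))) := rfl
      rw [e]
      simp only [toIdx_toPerm]
      rw [toIdx_ofIdx (by norm_num)]
    rw [← h7, h6]
    change toIdx (ofIdx 4) = 4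
    rfl

end CfsgL.Mat
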