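import Cfsg.Agent.L.Mat.Fix8
import Cfsg.Prelude.Def_KGroupFacts
/-!
Realising automorphisms of permutation groups.
-/
set_option autoImplicit false
set_option maxHeartbeats 400000
namespace CfsgL.Mat
open Cfsg CfsgL.Comp CfsgL.Golay CfsgL.Orb
open scoped Pointwise

/-- an automorphism that maps a point stabiliser into a point stabiliser is induced -/
theorem exists_perm {G X : Type*} [Group G] [Finite X] (φ : G →* Equiv.Perm X)
    (htr : ∀ x y, ∃ g, φ g x = y) (α : MulAut G) (x0 y : X)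
    (h : ∀ g, φ g x0 = x0 → φ (α g) y = y) :
    ∃ π : Equiv.Perm X, ∀ g, φ (α g) = π * φ g * π⁻¹ := by
  choose t ht using htr x0
  let f : X → X := fun x => φ (α (t x)) y
  have hf : ∀ g, f (φ g x0) = φ (α g) y := by
    intro g
    have h1 : φ ((t (φ g x0))⁻¹ * g) x0 = x0 := by
      rw [map_mul, map_inv, Equiv.Perm.mul_apply, Equiv.Perm.inv_eq_iff_eq]
      exact (ht _).symm
    have h2 := h _ h1
    rw [map_mul, map_inv, map_mul, map_inv, Equiv.Perm.mul_apply, Equiv.Perm.inv_eq_iff_eq] at h2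
    exact h2.symm
  have hf2 : ∀ g x, f (φ g x) = φ (α g) (f x) := by
    intro g x
    obtain ⟨k, rfl⟩ := htr x0 x
    rw [hf, ← Equiv.Perm.mul_apply, ← map_mul, hf, map_mul, map_mul, Equiv.Perm.mul_apply]
  have hsur : Function.Surjective f := by
    intro x
    obtain ⟨g, hg⟩ := htr y x
    refine ⟨φ (α.symm g) x0, ?_⟩
    rw [hf, MulEquiv.apply_symm_apply, hg]
  have hbij : Function.Bijective f := hsur.bijective_of_finite
  refine ⟨Equiv.ofBijective f hbij, fun g => ?_⟩
  rw [eq_mul_inv_iff_mul_eq]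
  ext x : 1
  exact (hf2 g x).symm

section orb
variable {Ω : Type*} [Fintype Ω] [DecidableEq Ω]

open Classical in
/-- orbit as a finset -/
noncomputable def orb (L : Subgroup (Equiv.Perm Ω)) (x : Ω) : Finset Ω :=
  Finset.univ.filter (fun y => ∃ g ∈ L, g x = y)

theorem mem_orb {L : Subgroup (Equiv.Perm Ω)} {x y : Ω} : y ∈ orb L x ↔ ∃ g ∈ L, g x = y := by
  simp [orb]

theorem self_mem_orb (L : Subgroup (Equiv.Perm Ω)) (x : Ω) : x ∈ orb L x :=
  mem_orb.2 ⟨1, L.one_mem, rfl⟩

theorem orb_inv {L : Subgroup (Equiv.Perm Ω)} {x y : Ω} {g : Equiv.Perm Ω} (hg : g ∈ L)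
    (hy : y ∈ orb L x) : g y ∈ orb L x := by
  obtain ⟨h, hh, rfl⟩ := mem_orb.1 hy
  exact mem_orb.2 ⟨g * h, L.mul_mem hg hh, rfl⟩

theorem orb_inv' {L : Subgroup (Equiv.Perm Ω)} {x y : Ω} {g : Equiv.Perm Ω} (hg : g ∈ L)
    (hy : g y ∈ orb L x) : y ∈ orb L x := by
  have := orb_inv (L.inv_mem hg) hy
  simpa using this

theorem card_orb (L : Subgroup (Equiv.Perm Ω)) (x : Ω) :
    Nat.card L = (orb L x).card * Nat.card ↥(L ⊓ MulAction.stabilizer (Equiv.Perm Ω) x) := by
  rw [card_eq_orbit_mul L x]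
  congr 1
  rw [← Set.ncard_coe_finset]
  congr 1
  ext y
  rw [Finset.mem_coe, mem_orb, MulAction.mem_orbit_iff]
  constructor
  · rintro ⟨g, hg⟩
    exact ⟨g.1, g.2, hg⟩
  · rintro ⟨g, hg, h⟩
    exact ⟨⟨g, hg⟩, h⟩

theorem card_orb_dvd (L : Subgroup (Equiv.Perm Ω)) (x : Ω) : (orb L x).card ∣ Nat.card L :=
  ⟨_, card_orb L x⟩

/-- an orbit of length one -/
theorem fixed_of_card_orb {L : Subgroup (Equiv.Perm Ω)} {x : Ω} (h : (orb L x).card = 1) :
    ∀ g ∈ L, g x = x := by
  obtain ⟨y, hy⟩ := Finset.card_eq_one.1 h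
  intro g hg
  have h1 : x ∈ orb L x := self_mem_orb L x
  have h2 : g x ∈ orb L x := orb_inv hg h1
  rw [hy, Finset.mem_singleton] at h1 h2
  rw [h2]; exact h1.symm

theorem orb_modEq {p : ℕ} [Fact p.Prime] {L : Subgroup (Equiv.Perm Ω)} {x : Ω}
    {z : Equiv.Perm Ω} (hz : z ∈ L) (h : z ^ p = 1) :
    (orb L x).card ≡ ((orb L x).filter (fun y => z y = y)).card [MOD p] :=
  card_modEq_fix z h _ (fun _ hy => orb_inv hz hy)

/-- kernel on an invariant set -/
theorem exists_ker (L : Subgroup (Equiv.Perm Ω)) (S : Finset Ω) (hS : ∀ g ∈ L, ∀ x ∈ S, g x ∈ S)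
    (h : S.card.factorial < Nat.card L) : ∃ g ∈ L, g ≠ 1 ∧ ∀ x ∈ S, g x = x := by
  have hS' : ∀ g ∈ L, ∀ x, x ∈ S ↔ g x ∈ S := by
    intro g hg x
    refine ⟨hS g hg x, fun hx => ?_⟩
    have := hS g⁻¹ (L.inv_mem hg) _ hx
    simpa using this
  let f : L → Equiv.Perm S := fun g => Equiv.Perm.subtypePerm g.1 (fun x => (hS' g.1 g.2 x).symm)
  have h1 : ¬ Function.Injective f := by
    intro hinj
    have := Nat.card_le_card_of_injective f hinj
    rw [Nat.card_perm, Nat.card_eq_fintype_card (α := S), Fintype.card_coe] at this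
    omega
  rw [Function.Injective] at h1
  push Not at h1
  obtain ⟨a, b, hab, hne⟩ := h1
  refine ⟨b.1⁻¹ * a.1, L.mul_mem (L.inv_mem b.2) a.2, ?_, ?_⟩
  · intro hh
    apply hne
    apply Subtype.ext
    rw [inv_mul_eq_one] at hh
    exact hh.symm
  · intro x hx
    have h2 := congrArg (fun k => (k ⟨x, hx⟩).1) hab
    have h3 : a.1 x = b.1 x := h2
    rw [Equiv.Perm.mul_apply, h3]
    simp

/-- elements of prime order -/
theorem exists_elt (L : Subgroup (Equiv.Perm Ω)) (p : ℕ) [Fact p.Prime] (h : p ∣ Nat.card L) :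
    ∃ z ∈ L, z ^ p = 1 ∧ z ≠ 1 := by
  obtain ⟨z, hz⟩ := exists_prime_orderOf_dvd_card' (G := L) p h
  refine ⟨z.1, z.2, ?_, ?_⟩
  · have := pow_orderOf_eq_one z
    rw [hz] at this
    exact congrArg Subtype.val this
  · intro h1
    have h2 : z = 1 := Subtype.ext h1
    rw [h2, orderOf_one] at hz
    exact (Fact.out : p.Prime).one_lt.ne hz

end orb

/-- Sylow counting for a self-centralising Sylow subgroup of prime order -/
theorem sylow_count {G : Type*} [Group G] [Finite G] {p : ℕ} [Fact p.Prime] (P : Sylow p G)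
    (hP : Nat.card P = p) (hC : Subgroup.centralizer ((P : Subgroup G) : Set G) ≤ (P : Subgroup G)) :
    ∃ e n, e ∣ p - 1 ∧ n % p = 1 ∧ Nat.card G = n * (p * e) := by
  haveI : IsCyclic P := isCyclic_of_prime_card hP
  let N := Subgroup.normalizer ((P : Subgroup G) : Set G)
  let f := Subgroup.normalizerMonoidHom (P : Subgroup G)
  have hker : Nat.card f.ker = p := by
    have h1 : f.ker = ((P : Subgroup G)).subgroupOf N := by
      change (Subgroup.normalizerMonoidHom (P : Subgroup G)).ker = _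
      rw [Subgroup.normalizerMonoidHom_ker]
      congr 1
      apply le_antisymm hC
      intro x hx
      rw [Subgroup.mem_centralizer_iff]
      intro y hy
      have := (IsCyclic.commGroup (α := P)).mul_comm (⟨y, hy⟩ : P) ⟨x, hx⟩
      exact (Subtype.ext_iff.1 this)
    rw [h1]
    refine Eq.trans ?_ hP
    exact Nat.card_congr (Subgroup.subgroupOfEquivOfLe Subgroup.le_normalizer).toEquiv
  have hrange : Nat.card f.range ∣ p - 1 := by
    have h1 := Subgroup.card_subgroup_dvd_card f.range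
    rwa [IsCyclic.card_mulAut, hP, Nat.totient_prime (Fact.out : p.Prime)] at h1
  have hN : Nat.card N = p * Nat.card f.range := by
    have h1 := Subgroup.card_eq_card_quotient_mul_card_subgroup f.ker
    rw [h1, hker, mul_comm]
    congr 1
    exact Nat.card_congr (QuotientGroup.quotientKerEquivRange f).toEquiv
  refine ⟨Nat.card f.range, N.index, hrange, ?_, ?_⟩
  · have h1 := card_sylow_modEq_one p G
    rw [Sylow.card_eq_index_normalizer P] at h1
    unfold Nat.ModEq at h1
    rw [Nat.mod_eq_of_lt (Fact.out : p.Prime).one_lt] at h1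
    exact h1
  · rw [← hN, mul_comm]
    exact (Subgroup.card_mul_index N).symm

/-- the outer automorphism group -/
theorem card_out_eq_one {G : Type*} [Group G] (h : ∀ α : MulAut G, ∃ g, α = MulAut.conj g) :
    Nat.card (Cfsg.Out G) = 1 := by
  have h1 : Cfsg.Inn G = ⊤ := by
    rw [eq_top_iff]
    intro α _
    obtain ⟨g, rfl⟩ := h α
    exact ⟨g, rfl⟩
  change Nat.card (MulAut G ⧸ Cfsg.Inn G) = 1
  rw [h1]
  exact Subgroup.index_top

end CfsgL.Mat
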