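import Cfsg.Agent.L.Mat.Real
/-!
Sharply 4-transitive groups of degree 11 are self-normalising.
-/
set_option autoImplicit false
set_option maxHeartbeats 400000
namespace CfsgL.Mat
open Cfsg

section
variable {X : Type*} [Fintype X] [DecidableEq X]

theorem sharp4_normal (hX : Fintype.card X = 11) (H : Subgroup (Equiv.Perm X))
    (htr : ∀ f f' : Fin 4 ↪ X, ∃ g ∈ H, ∀ i, g (f i) = f' i)
    (hsh : ∀ f : Fin 4 ↪ X, ∀ g ∈ H, (∀ i, g (f i) = f i) → g = 1)
    (hc : Nat.card H = 7920)
    (π : Equiv.Perm X) (f : Fin 4 ↪ X) (hf : ∀ i, π (f i) = f i)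
    (hn : ∀ g ∈ H, π * g * π⁻¹ ∈ H) : π = 1 := by
  -- the fixed points
  let F : Finset X := Finset.univ.filter (fun x => π x = x)
  have hF : ∀ x, x ∈ F ↔ π x = x := fun x => by simp [F]
  have hπF : ∀ x, π⁻¹ x = x ↔ π x = x := by
    intro x
    rw [Equiv.Perm.inv_eq_iff_eq]
    exact eq_comm
  -- bounded fixed points
  have hfix : ∀ g ∈ H, g ≠ 1 → (Finset.univ.filter (fun x => g x = x)).card ≤ 3 := by
    intro g hg hg1
    by_contra hcon
    push Not at hcon
    obtain ⟨t, ht, htc⟩ := Finset.exists_subset_card_eq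
      (show 4 ≤ (Finset.univ.filter (fun x => g x = x)).card by omega)
    let e := t.equivFinOfCardEq htc
    apply hg1
    apply hsh ⟨fun i => (e.symm i).1, fun i j h => e.symm.injective (Subtype.ext h)⟩ g hg
    intro i
    have := ht (e.symm i).2
    rw [Finset.mem_filter] at this
    exact this.2
  -- commuting elements
  let C : Subgroup (Equiv.Perm X) := H ⊓ Subgroup.centralizer {π}
  have hCc : ∀ g, g ∈ C ↔ g ∈ H ∧ g * π = π * g := by
    intro g
    rw [Subgroup.mem_inf, Subgroup.mem_centralizer_singleton_iff]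
  have hcomm : ∀ g ∈ H, (∀ i, g (f i) ∈ F) → g ∈ C := by
    intro g hg hgf
    rw [hCc]
    refine ⟨hg, ?_⟩
    have h1 : g⁻¹ * (π * g * π⁻¹) = 1 := by
      apply hsh f _ (H.mul_mem (H.inv_mem hg) (hn g hg))
      intro i
      rw [Equiv.Perm.mul_apply, Equiv.Perm.mul_apply, Equiv.Perm.mul_apply,
        (hπF _).2 (hf i), (hF _).1 (hgf i)]
      simp
    have h2 := inv_mul_eq_one.1 h1
    nth_rewrite 1 [h2]
    group
  have hCF : ∀ g ∈ C, ∀ x ∈ F, g x ∈ F := by
    intro g hg x hx
    rw [hF] at hx ⊢
    have h1 := congrArg (fun k => k x) ((hCc g).1 hg).2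
    change g (π x) = π (g x) at h1
    rw [← h1, hx]
  -- key: exactly one fixed point outside is impossible
  have hkey : ∀ g ∈ C, (Finset.univ.filter (fun x => g x = x)).card ≠
      (F.filter (fun x => g x = x)).card + 1 := by
    intro g hg hcard
    have hsub : F.filter (fun x => g x = x) ⊆ Finset.univ.filter (fun x => g x = x) :=
      Finset.filter_subset_filter _ (Finset.subset_univ _)
    have h1 : (Finset.univ.filter (fun x => g x = x) \ F.filter (fun x => g x = x)).card = 1 := by
      rw [Finset.card_sdiff_of_subset hsub, hcard]; omega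
    obtain ⟨x, hx⟩ := Finset.card_eq_one.1 h1
    have hx1 : x ∈ Finset.univ.filter (fun x => g x = x) \ F.filter (fun x => g x = x) := by
      rw [hx]; simp
    have hmem : ∀ y, y ∈ Finset.univ.filter (fun x => g x = x) \ F.filter (fun x => g x = x) ↔
        (g y = y ∧ π y ≠ y) := by
      intro y
      simp only [Finset.mem_sdiff, Finset.mem_filter, Finset.mem_univ, true_and, hF]
      tauto
    rw [hmem] at hx1
    have h2 := congrArg (fun k => k x) ((hCc g).1 hg).2
    change g (π x) = π (g x) at h2
    rw [hx1.1] at h2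
    have h3 : π x ∈ Finset.univ.filter (fun x => g x = x) \ F.filter (fun x => g x = x) := by
      rw [hmem]
      exact ⟨h2, fun h => hx1.2 (π.injective h)⟩
    rw [hx, Finset.mem_singleton] at h3
    exact hx1.2 h3
  -- the order of C
  have hCcard : Nat.card C = (F.card).descFactorial 4 := by
    let Φ : C → (Fin 4 ↪ F) := fun g => ⟨fun i => ⟨g.1 (f i), hCF g.1 g.2 _ ((hF _).2 (hf i))⟩,
      fun i j h => f.injective (g.1.injective (congrArg Subtype.val h))⟩
    have hΦ : Function.Bijective Φ := by
      constructor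
      · intro a b hab
        apply Subtype.ext
        have h1 : a.1⁻¹ * b.1 = 1 := by
          apply hsh f _ (H.mul_mem (H.inv_mem a.2.1) b.2.1)
          intro i
          have h2 : a.1 (f i) = b.1 (f i) :=
            congrArg (fun k : Fin 4 ↪ F => (k i).1) hab
          rw [Equiv.Perm.mul_apply, ← h2]; simp
        exact inv_mul_eq_one.1 h1
      · intro k
        obtain ⟨g, hg, hgk⟩ := htr f (k.trans (Function.Embedding.subtype _))
        have hgC : g ∈ C := hcomm g hg (fun i => by rw [hgk i]; exact (k i).2)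
        refine ⟨⟨g, hgC⟩, ?_⟩
        ext i
        exact hgk i
    rw [Nat.card_congr (Equiv.ofBijective Φ hΦ), Nat.card_eq_fintype_card,
      Fintype.card_embedding_eq, Fintype.card_coe, Fintype.card_fin]
  have hCdvd : (F.card).descFactorial 4 ∣ 7920 := by
    rw [← hCcard, ← hc]
    exact Subgroup.card_dvd_of_le inf_le_left
  have hF4 : 4 ≤ F.card := by
    have h1 : (Finset.univ.map f).card ≤ F.card := by
      apply Finset.card_le_card
      intro x hx
      obtain ⟨i, -, rfl⟩ := Finset.mem_map.1 hx
      exact (hF _).2 (hf i)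
    rwa [Finset.card_map, Finset.card_univ, Fintype.card_fin] at h1
  have hF11 : F.card ≤ 11 := by
    rw [← hX]; exact Finset.card_le_univ F
  have huniv : (Finset.univ : Finset X).card = 11 := by rw [Finset.card_univ, hX]
  obtain h | h | h | h | h | h | h | h : F.card = 4 ∨ F.card = 5 ∨ F.card = 6 ∨ F.card = 7 ∨
      F.card = 8 ∨ F.card = 9 ∨ F.card = 10 ∨ F.card = 11 := by omega
  · exfalso
    haveI : Fact (Nat.Prime 3) := ⟨by norm_num⟩
    obtain ⟨z, hz, hz3, hz1⟩ := exists_elt C 3 (by rw [hCcard, h]; decide)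
    have h1 := card_modEq_fix z hz3 Finset.univ (fun _ _ => Finset.mem_univ _)
    have h2 := card_modEq_fix z hz3 F (hCF z hz)
    have h3 := hfix z hz.1 hz1
    have h4 := hkey z hz
    have h5 : (F.filter (fun x => z x = x)).card ≤ (Finset.univ.filter (fun x => z x = x)).card :=
      Finset.card_le_card (Finset.filter_subset_filter _ (Finset.subset_univ _))
    rw [huniv] at h1
    rw [h] at h2
    unfold Nat.ModEq at h1 h2
    omega
  · exfalso
    haveI : Fact (Nat.Prime 5) := ⟨by norm_num⟩
    obtain ⟨z, hz, hz3, hz1⟩ := exists_elt C 5 (by rw [hCcard, h]; decide)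
    have h1 := card_modEq_fix z hz3 Finset.univ (fun _ _ => Finset.mem_univ _)
    have h2 := card_modEq_fix z hz3 F (hCF z hz)
    have h3 := hfix z hz.1 hz1
    have h4 := hkey z hz
    have h5 : (F.filter (fun x => z x = x)).card ≤ (Finset.univ.filter (fun x => z x = x)).card :=
      Finset.card_le_card (Finset.filter_subset_filter _ (Finset.subset_univ _))
    rw [huniv] at h1
    rw [h] at h2
    unfold Nat.ModEq at h1 h2
    omega
  · exfalso
    haveI : Fact (Nat.Prime 2) := ⟨by norm_num⟩
    obtain ⟨z, hz, hzf⟩ := htr f ((Equiv.swap (0 : Fin 4) 1).toEmbedding.trans f)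
    have hzf' : ∀ i, z (f i) = f (Equiv.swap (0 : Fin 4) 1 i) := hzf
    have hzC : z ∈ C := hcomm z hz (fun i => by rw [hzf' i]; exact (hF _).2 (hf _))
    have hz2 : z ^ 2 = 1 := by
      apply hsh f _ (H.pow_mem hz 2)
      intro i
      rw [pow_two, Equiv.Perm.mul_apply, hzf', hzf', Equiv.swap_apply_self]
    have hz1 : z ≠ 1 := by
      intro h1
      have h2 := hzf' 0
      rw [h1, Equiv.swap_apply_left] at h2
      exact absurd (f.injective h2) (by decide)
    have h1 := card_modEq_fix z hz2 Finset.univ (fun _ _ => Finset.mem_univ _)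
    have h2 := card_modEq_fix z hz2 F (hCF z hzC)
    have h3 := hfix z hz hz1
    have h4 := hkey z hzC
    have h5 : (F.filter (fun x => z x = x)).card ≤ (Finset.univ.filter (fun x => z x = x)).card :=
      Finset.card_le_card (Finset.filter_subset_filter _ (Finset.subset_univ _))
    have h6 : 2 ≤ (F.filter (fun x => z x = x)).card := by
      have h7 : ({f 2, f 3} : Finset X) ⊆ F.filter (fun x => z x = x) := by
        intro x hx
        simp only [Finset.mem_insert, Finset.mem_singleton] at hx
        rw [Finset.mem_filter, hF]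
        rcases hx with rfl | rfl
        · refine ⟨hf 2, ?_⟩
          rw [hzf']; congr 1
        · refine ⟨hf 3, ?_⟩
          rw [hzf']; congr 1
      have h8 := Finset.card_le_card h7
      rwa [Finset.card_pair (fun h => absurd (f.injective h) (by decide))] at h8
    rw [huniv] at h1
    rw [h] at h2
    unfold Nat.ModEq at h1 h2
    omega
  · rw [h] at hCdvd; exact absurd hCdvd (by decide)
  · rw [h] at hCdvd; exact absurd hCdvd (by decide)
  · rw [h] at hCdvd; exact absurd hCdvd (by decide)
  · rw [h] at hCdvd; exact absurd hCdvd (by decide)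
  · have h1 : F = Finset.univ := by
      rw [← Finset.card_eq_iff_eq_univ, h, hX]
    ext x : 1
    have : x ∈ F := by rw [h1]; exact Finset.mem_univ _
    exact (hF x).1 this

end

end CfsgL.Mat
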